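import Cfsg.Agent.Lib.JankoFourTrio.Data
import Cfsg.Agent.Lib.ThreeTrans.M24Inv
import Cfsg.Agent.Lib.JankoFourHexad.OrbitChecks
import Cfsg.Agent.Lib.JankoFourHexad.PointChecks

/-!
# Checking the certificates of the trio group (owner: helper28)
-/

set_option autoImplicit false
set_option maxRecDepth 100000

namespace CfsgLib.JankoFourTrio

open CfsgLib.Sporadic CfsgLib.JankoFourHexad
open CfsgLib.ThreeTrans.LargeFischer (vI)
open CfsgLib.ThreeTrans.M24Inv (peq)

/-- One of the packed permutations. -/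
def gP (k : ℕ) : ℕ := trioPerms.getD k 0

/-- The code of a pair of indices. -/
noncomputable def pc (a b : ℕ) : ℕ := lamI (Nat.xor (vI a) (vI b))

/-- The code of a list of pairs moved by a packed permutation. -/
noncomputable def pcSum (p : ℕ) (l : List (ℕ × ℕ)) : ℕ :=
  l.foldr (fun ab acc => Nat.xor (pc (pget p ab.1) (pget p ab.2)) acc) 0

/-- The action of a generator on codes. -/
noncomputable def tA (k n : ℕ) : ℕ := xorComb (fun j => (trioTabs.getD k []).getD j 0) n 11

/-- The code of a commutator with the element of order seven. -/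
noncomputable def ds (n : ℕ) : ℕ := Nat.xor n (tA 2 n)

/-- An element of the elementary group of order 64 on codes. -/
noncomputable def rA (i n : ℕ) : ℕ :=
  Nat.rec n (fun j m => if Nat.testBit i j then tA (4 + j) m else m) 6

/-- An element of the elementary group of order 64. -/
noncomputable def rP (i : ℕ) : ℕ :=
  Nat.rec pone (fun j q => if Nat.testBit i j then pmul (gP (4 + j)) q else q) 6

/-- An element of the symmetric group of degree three. -/
noncomputable def hP (h : ℕ) : ℕ :=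
  pmul (Nat.rec pone (fun _ q => pmul (gP 0) q) (h % 3)) (Nat.rec pone (fun _ q => pmul (gP 1) q) (h / 3))

/-- The codes of the elementary group of order eight. -/
def wCode (i : ℕ) : ℕ := [0, 1, 10, 11, 20, 21, 30, 31].getD i 0

/-- Membership among these codes. -/
noncomputable def inW (n : ℕ) : Bool :=
  Nat.testBit (Nat.lor (Nat.lor (Nat.lor 1 (2 ^ 1)) (Nat.lor (2 ^ 10) (2 ^ 11)))
    (Nat.lor (Nat.lor (2 ^ 20) (2 ^ 21)) (Nat.lor (2 ^ 30) (2 ^ 31)))) n

theorem perms_mem : forallLt 10 (fun k => okPerm (gP k) &&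
    forallLt 12 fun i => inCode (mimg (gP k) (basisMask i))) = true := by decide +kernel

theorem pairs_ok : forallLt 11 (fun j => Nat.beq (pcSum pone (trioPairs.getD j [])) (2 ^ j) &&
    (trioPairs.getD j []).all (fun ab => Nat.blt ab.1 24 && Nat.blt ab.2 24) &&
    forallLt 10 fun k => Nat.beq (pcSum (gP k) (trioPairs.getD j [])) ((trioTabs.getD k []).getD j 0)) = true := by
  decide +kernel

theorem rel_ok : (Nat.beq (pmul (gP 0) (pmul (gP 0) (gP 0))) pone && Nat.beq (pmul (gP 1) (gP 1)) pone &&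
    Nat.beq (pmul (gP 1) (pmul (gP 0) (gP 1))) (pmul (gP 0) (gP 0)) &&
    Nat.beq (pmul (gP 0) (gP 2)) (pmul (gP 2) (gP 0)) && Nat.beq (pmul (gP 1) (gP 2)) (pmul (gP 2) (gP 1)) &&
    Nat.beq (pmul (gP 0) (gP 3)) (pmul (gP 3) (gP 0)) && Nat.beq (pmul (gP 1) (gP 3)) (pmul (gP 3) (gP 1)) &&
    Nat.beq (pmul (gP 3) (gP 3)) pone &&
    Nat.beq (Nat.rec pone (fun _ q => pmul (gP 2) q) 7) pone && !peq (gP 0) pone) = true := by decide +kernel

theorem elem_ok : forallLt 6 (fun i => forallLt 6 fun j =>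
    Nat.beq (pmul (gP (4 + i)) (gP (4 + j))) (pmul (gP (4 + j)) (gP (4 + i))) &&
      Nat.beq (pmul (gP (4 + i)) (gP (4 + i))) pone) = true := by decide +kernel

/-- The six involutions are commutators with `s` and with `u`. -/
theorem comm_ok : forallLt 6 (fun i =>
    Nat.beq (pmul (gP 2) (rP (trioY.getD i 0))) (pmul (rP (trioY.getD i 0)) (pmul (gP (4 + i)) (gP 2))) &&
    Nat.beq (pmul (gP 0) (rP (trioZ.getD i 0))) (pmul (gP (4 + i)) (pmul (rP (trioZ.getD i 0)) (gP 0))) &&
    Nat.blt (trioY.getD i 0) 64 && Nat.blt (trioZ.getD i 0) 64) = true := by decide +kernel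

/-- The element `g` is a product of conjugates of `s`. -/
theorem word_ok : Nat.beq (gP 3) (pmul (gP 2) (pmul (gP 2) (pmul (pmul (gP 3) (pmul (gP 2) (gP 3)))
    (pmul (pmul (gP 3) (pmul (gP 2) (gP 3))) (pmul (gP 2) (gP 2)))))) = true := by decide +kernel

/-- The products are different. -/
theorem prod_inj : forallLt 64 (fun i => forallLt 64 (fun j => forallLt 6 fun h =>
    (Nat.beq i j && Nat.beq h 0) || !peq (pmul (rP i) (hP h)) (rP j))) = true := by decide +kernel

theorem hP_inj : forallLt 6 (fun h => forallLt 6 fun h' => Nat.beq h h' || !peq (hP h) (hP h')) = true := by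
  decide +kernel

/-- Only the identity of the fixer commutes with both generators of the symmetric group. -/
theorem fixer_cent : forallLt 64 (fun i => forallLt 6 fun h => (Nat.beq i 0 && Nat.beq h 0) ||
    !(peq (pmul (pmul (rP i) (hP h)) (gP 0)) (pmul (gP 0) (pmul (rP i) (hP h))) &&
      peq (pmul (pmul (rP i) (hP h)) (gP 1)) (pmul (gP 1) (pmul (rP i) (hP h))))) = true := by decide +kernel

theorem seven_cent : forallLt 64 (fun i => Nat.beq i 0 || !peq (pmul (rP i) (gP 2)) (pmul (gP 2) (rP i))) = true := by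
  decide +kernel

theorem tabs_fix : forallLt 10 (fun k => Nat.beq k 2 || Nat.beq k 3 ||
    (Nat.beq (tA k 1) 1 && Nat.beq (tA k 10) 10 && Nat.beq (tA k 20) 20)) = true := by decide +kernel

theorem tabs_norm : (Nat.beq (tA 2 1) 10 && Nat.beq (tA 2 10) 20 && Nat.beq (tA 2 20) 11 &&
    Nat.beq (tA 3 1) 10 && Nat.beq (tA 3 10) 1 && Nat.beq (tA 3 20) 20) = true := by decide +kernel

theorem span_ok : forallLt 11 (fun j =>
    Nat.beq ((trioSpan.getD j []).foldr (fun kn acc => Nat.xor (Nat.xor kn.2 (tA kn.1 kn.2)) acc) 0) (2 ^ j) &&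
      (trioSpan.getD j []).all fun kn => (Nat.beq kn.1 0 || (Nat.ble 4 kn.1 && Nat.blt kn.1 10)) &&
        Nat.blt kn.2 2048) = true := by
  decide +kernel

theorem mask_ok : forallLt 2048 (fun n => Nat.testBit trioMask (ds n) && (!inW n || Nat.testBit trioMask n)) = true := by
  decide +kernel

theorem fixed_seven : Nat.beq (countLt 2048 fun n => Nat.beq (tA 2 n) n) 4 = true := by decide +kernel

theorem comm_W : forallLt 6 (fun k => forallLt 11 fun j =>
    inW (Nat.xor (ds (2 ^ j)) (tA (4 + k) (ds (2 ^ j))))) = true := by decide +kernel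

theorem faithful : forallLt 64 (fun i => Nat.beq i 0 ||
    !forallLt 11 fun j => Nat.beq (rA i (ds (2 ^ j))) (ds (2 ^ j))) = true := by decide +kernel

theorem fixed_mask : forallLt 2048 (fun m => !Nat.testBit trioMask m || inW m ||
    !forallLt 6 fun k => Nat.beq (tA (4 + k) m) m) = true := by decide +kernel

theorem seven_mask : forallLt 2048 (fun m => !Nat.testBit trioMask m || Nat.beq m 0 ||
    !Nat.beq (tA 2 m) m) = true := by decide +kernel

theorem twist_ok : forallLt 64 (fun i => !(peq (pmul (gP 0) (pmul (rP i) (gP 3))) (pmul (pmul (rP i) (gP 3)) (gP 0)) &&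
    Nat.beq (rA i (tA 3 389)) 389)) = true := by decide +kernel

theorem twist_fixed : (Nat.beq (tA 2 389) 389 && !Nat.testBit trioMask 389) = true := by decide +kernel

/-- One step of the orbit. -/
noncomputable def orbStep (m c : ℕ) : ℕ :=
  if Nat.testBit m (c / 16) && Nat.blt (c % 16) 9 then Nat.lor m (Nat.shiftLeft 1 (qGen (c % 16) (c / 16))) else m

/-- The orbit of the vector `5`. -/
noncomputable def orbMask : ℕ := trioOrbit.foldl orbStep (2 ^ 5)

theorem orb_count : Nat.beq (countLt 4096 fun n => Nat.testBit orbMask n) 693 = true := by decide +kernel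

theorem orb_zero : Nat.testBit orbMask 0 = false := by decide +kernel

theorem outer_word : qWord [6, 4] 5 = 5 ∧ qWord [6, 4] 1 = 1025 := by decide +kernel

theorem pair_signs : ∀ a b : Fin 2, pairB 5 (2 * a.1 + b.1) = a.1 ∧ pairB 10 (2 * a.1 + b.1) = b.1 := by decide +kernel

theorem mP_five : mP 5 = 10 ∧ eU 10 = 5 ∧ eU 20 = 10 := by decide +kernel

theorem wCode_xor : ∀ i j : Fin 8, ∃ k : Fin 8, Nat.xor (wCode i.1) (wCode j.1) = wCode k.1 := by decide +kernel

theorem wCode_inj : ∀ i j : Fin 8, wCode i.1 = wCode j.1 → i = j := by decide +kernel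

theorem inW_iff : forallLt 2048 (fun n => inW n == (Nat.beq n 0 || Nat.beq n 1 || Nat.beq n 10 || Nat.beq n 11 ||
    Nat.beq n 20 || Nat.beq n 21 || Nat.beq n 30 || Nat.beq n 31)) = true := by decide +kernel

end CfsgLib.JankoFourTrio

namespace CfsgLib.JankoFourTrio

open CfsgLib.Sporadic

theorem ds_inj : forallLt 512 (fun c => Nat.beq c 0 || !Nat.beq (ds (4 * c)) 0) = true := by decide +kernel

theorem perm_four : ∀ a u : Equiv.Perm (Fin 4), ∀ x : Fin 4, a x = x → u x = x → a * a = 1 → a ≠ 1 →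
    u * u * u = 1 → u ≠ 1 → a * (u * a * u⁻¹) ≠ (u * a * u⁻¹) * a := by decide +kernel

theorem perm_five_sign : ∀ u r : Equiv.Perm (Fin 5), ∀ x : Fin 5, u x = x → r x = x → u * u * u = 1 → u ≠ 1 →
    r * r = 1 → r * u * r⁻¹ = u * u → Equiv.Perm.sign r = -1 := by decide +kernel

theorem perm_five_conj : ∀ a u : Equiv.Perm (Fin 5), ∀ x : Fin 5, a x = x → u x = x → a * a = 1 → a ≠ 1 →
    u * u * u = 1 → u ≠ 1 → u * a * u⁻¹ ≠ a := by decide +kernel

end CfsgLib.JankoFourTrio

namespace CfsgLib.JankoFourTrio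

open CfsgLib.Sporadic

/-- A coordinate vector as an index among the eight codes. -/
def wIdx (v : Fin 3 → ZMod 2) : ℕ := (v 0).val + 2 * (v 1).val + 4 * (v 2).val

/-- The action of `s` and `g` on the indices. -/
def wTab (k i : ℕ) : ℕ := if k = 0 then [0, 2, 4, 6, 3, 1, 7, 5].getD i 0 else [0, 2, 1, 3, 4, 6, 5, 7].getD i 0

/-- The action on triples of indices. -/
def triAct (k n : ℕ) : ℕ := wTab k (n % 8) + 8 * wTab k (n / 8 % 8) + 64 * wTab k (n / 64)

/-- Add the images of all triples. -/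
noncomputable def triStep (m : ℕ) : ℕ :=
  Nat.rec m (fun n a => if Nat.testBit m n then
    Nat.lor a (Nat.lor (Nat.shiftLeft 1 (triAct 0 n)) (Nat.shiftLeft 1 (triAct 1 n))) else a) 512

/-- The triples reached from the standard one. -/
noncomputable def triMask : ℕ := Nat.rec (2 ^ (1 + 8 * 2 + 64 * 4)) (fun _ a => triStep a) 12

theorem tab_codes : ∀ k : Fin 2, ∀ i : Fin 8, wTab k.1 i.1 < 8 ∧
    tA (2 + k.1) (wCode i.1) = wCode (wTab k.1 i.1) := by decide +kernel

theorem wIdx_facts : ∀ v w : Fin 3 → ZMod 2, wIdx v < 8 ∧ wCode (wIdx (v + w)) = Nat.xor (wCode (wIdx v)) (wCode (wIdx w)) ∧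
    (wIdx v = wIdx w → v = w) := by decide +kernel

theorem wIdx_surj : ∀ i : Fin 8, ∃ v : Fin 3 → ZMod 2, wIdx v = i.1 := by decide +kernel

theorem wIdx_single : ∀ j : Fin 3, wIdx (Pi.single j 1) = 2 ^ j.1 := by decide +kernel

theorem tri_all : ∀ a b c : Fin 3 → ZMod 2, Nat.testBit triMask (wIdx a + 8 * wIdx b + 64 * wIdx c) = true ∨
    a 0 * b 1 * c 2 - a 0 * c 1 * b 2 - b 0 * a 1 * c 2 + b 0 * c 1 * a 2 + c 0 * a 1 * b 2 - c 0 * b 1 * a 2 = 0 := by
  decide +kernel

end CfsgLib.JankoFourTrio
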