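import Cfsg.Agent.Lib.JankoFourTrio.Core
import Cfsg.Agent.Lib.PGroups.Basic

/-!
# The special group of order `2 ^ 15` (owner: helper28)
-/

set_option autoImplicit false
set_option linter.unusedSectionVars false
set_option maxRecDepth 100000

namespace CfsgLib.JankoFourTrio

open Cfsg CfsgLib.ThreeTrans
open CfsgLib.JankoFour CfsgLib.JankoFour.HexBase
open CfsgLib.JankoFourHexad
open CfsgLib.Sporadic (forallLt_elim)

variable {G : Type*} [Group G] [Finite G] {S : Setting G} {B : HexBase S}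

theorem ds_xor (a b : ℕ) : ds (Nat.xor a b) = Nat.xor (ds a) (ds b) := by
  show (a ^^^ b) ^^^ tA 2 (Nat.xor a b) = (a ^^^ tA 2 a) ^^^ (b ^^^ tA 2 b)
  rw [tA_xor]
  show (a ^^^ b) ^^^ (tA 2 a ^^^ tA 2 b) = _
  simp only [Nat.xor_assoc, Nat.xor_left_comm (x := b)]

theorem ds_zero : ds 0 = 0 := by
  show (0 : ℕ) ^^^ tA 2 0 = 0
  rw [tA_zero]; rfl

theorem ds_lt {n : ℕ} (hn : n < 2048) : ds n < 2048 :=
  Nat.xor_lt_two_pow (n := 11) hn (TrioLift.tA_lt (by norm_num) hn)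

theorem four_xor : ∀ a b : ℕ, Nat.xor (4 * a) (4 * b) = 4 * Nat.xor a b := fun a b => by
  show (4 * a) ^^^ (4 * b) = 4 * (a ^^^ b)
  rw [mul_comm 4 a, mul_comm 4 b, mul_comm 4 (a ^^^ b), show (4 : ℕ) = 2 ^ 2 from rfl, ← Nat.shiftLeft_eq,
    ← Nat.shiftLeft_eq, ← Nat.shiftLeft_eq, Nat.shiftLeft_xor_distrib]

namespace TrioLift

variable (T : TrioLift B) [IsSimpleGroup G]

theorem seven_norm_W {x : G} : T.g 2 * x * (T.g 2)⁻¹ ∈ B.trioC ↔ x ∈ B.trioC := by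
  have h := tabs_norm
  simp only [Bool.and_eq_true, Nat.beq_eq] at h
  obtain ⟨⟨⟨⟨⟨e1, e10⟩, e20⟩, -⟩, -⟩, -⟩ := h
  have c1 := T.conj_gσ (k := 2) (by norm_num) (show (1 : ℕ) < 2048 by norm_num)
  have c10 := T.conj_gσ (k := 2) (by norm_num) (show (10 : ℕ) < 2048 by norm_num)
  have c20 := T.conj_gσ (k := 2) (by norm_num) (show (20 : ℕ) < 2048 by norm_num)
  rw [e1] at c1
  rw [e10] at c10
  rw [e20] at c20
  have e11 : B.vel 11 = B.vel 1 * B.vel 10 := by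
    rw [B.vel_xor, show Nat.xor 1 10 = 11 by decide +kernel]
  have e1' : B.vel 1 = B.vel 11 * B.vel 10 := by
    rw [B.vel_xor, show Nat.xor 11 10 = 1 by decide +kernel]
  have hc : ∀ {y a b : G}, T.g 2 * a * (T.g 2)⁻¹ = b → (Commute (T.g 2 * y * (T.g 2)⁻¹) b ↔ Commute y a) :=
    fun e => e ▸ LargeData.commute_conj_iff'
  rw [B.mem_trioC, B.mem_trioC]
  constructor
  · rintro ⟨h1, h10, h20⟩
    exact ⟨(hc c1).1 h10, (hc c10).1 h20, (hc c20).1 (e11 ▸ h1.mul_right h10)⟩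
  · rintro ⟨h1, h10, h20⟩
    have g11 := (hc c20).2 h20
    exact ⟨e1' ▸ g11.mul_right ((hc c1).2 h1), (hc c1).2 h1, (hc c10).2 h10⟩

theorem g2_pow : T.g 2 ^ 7 = 1 := by
  rw [← map_pow, gσ_pow_facts.2.2.2.2.2.2.2.2.1, map_one]

include T in
theorem seven_L (hG : ¬ IsMulCommutative G) (hJ : IsOfJankoFourType G) {c : G} (hc : c ∈ B.trioC) :
    c⁻¹ * (T.g 2 * c * (T.g 2)⁻¹) ∈ B.trioL :=
  B.seven_central (T.index_eq hG hJ).le (T.mem _) T.g2_pow (fun _ => T.seven_norm_W) hc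

theorem rb_mem_L (hG : ¬ IsMulCommutative G) (hJ : IsOfJankoFourType G) {j : ℕ} (hj : j < 6) :
    T.g (4 + j) ∈ B.trioL := by
  obtain ⟨y, -, -, -, e, -⟩ := gσ_comm hj
  show T.κ _ ∈ _
  rw [e, map_mul, map_mul, map_mul, map_inv, map_inv]
  have := T.seven_L hG hJ (T.rσ_mem_C y)
  rwa [show (T.κ (rσ y))⁻¹ * T.g 2 * T.κ (rσ y) * (T.g 2)⁻¹ = (T.κ (rσ y))⁻¹ * (T.g 2 * T.κ (rσ y) * (T.g 2)⁻¹) by group]

theorem rσ_mem_L (hG : ¬ IsMulCommutative G) (hJ : IsOfJankoFourType G) (i : ℕ) : T.κ (rσ i) ∈ B.trioL :=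
  rσ_induction (P := fun q => T.κ q ∈ B.trioL) (by rw [map_one]; exact one_mem _)
    (fun j hj q hq => by rw [map_mul]; exact mul_mem (T.rb_mem_L hG hJ hj) hq) i

include T in
theorem ds_mem_L (hG : ¬ IsMulCommutative G) (hJ : IsOfJankoFourType G) {n : ℕ} (hn : n < 2048) :
    B.vel (ds n) ∈ B.trioL := by
  have h := T.seven_L hG hJ (vel_mem_C hn)
  rwa [inv_eq_of_mul_eq_one_right (B.vel_sq n), T.conj_gσ (by norm_num) hn, B.vel_xor] at h

include T in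
theorem trioW_le_L (hG : ¬ IsMulCommutative G) (hJ : IsOfJankoFourType G) : B.trioW ≤ B.trioL := by
  have h : ds 708 = 1 ∧ ds 832 = 10 ∧ ds 400 = 20 := by decide +kernel
  have h1 := T.ds_mem_L hG hJ (n := 708) (by norm_num)
  have h2 := T.ds_mem_L hG hJ (n := 832) (by norm_num)
  have h3 := T.ds_mem_L hG hJ (n := 400) (by norm_num)
  rw [h.1] at h1
  rw [h.2.1] at h2
  rw [h.2.2] at h3
  rintro _ ⟨i, rfl⟩
  have e : ∀ {a b : ℕ}, B.vel a ∈ B.trioL → B.vel b ∈ B.trioL → B.vel (Nat.xor a b) ∈ B.trioL :=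
    fun ha hb => B.vel_xor _ _ ▸ mul_mem ha hb
  obtain ⟨d3, d5, d6, d7⟩ : Nat.xor 1 10 = 11 ∧ Nat.xor 1 20 = 21 ∧ Nat.xor 10 20 = 30 ∧ Nat.xor 11 20 = 31 := by
    decide +kernel
  have c11 := e h1 h2
  rw [d3] at c11
  have c21 := e h1 h3
  rw [d5] at c21
  have c30 := e h2 h3
  rw [d6] at c30
  have c31 := e c11 h3
  rw [d7] at c31
  fin_cases i
  · show B.vel 0 ∈ _; rw [vel_zero]; exact one_mem _
  exacts [h1, h2, c11, h3, c21, c30, c31]

/-- The elements of `L`. -/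
theorem L_form (hG : ¬ IsMulCommutative G) (hJ : IsOfJankoFourType G) {x : G} (hx : x ∈ B.trioL) :
    ∃ n < 2048, ∃ i < 64, x = B.vel (ds n) * T.κ (rσ i) := by
  have h4 : ∀ c : Fin 512, 4 * c.1 < 2048 := fun c => by omega
  let f : Fin 512 × Fin 64 → ↥B.trioL := fun x =>
    ⟨B.vel (ds (4 * x.1.1)) * T.κ (rσ x.2.1), mul_mem (T.ds_mem_L hG hJ (h4 _)) (T.rσ_mem_L hG hJ _)⟩
  have hf : Function.Injective f := by
    rintro ⟨c, i⟩ ⟨c', i'⟩ e
    obtain ⟨e1, e2⟩ := T.split_unique (B.vel_mem (ds_lt (h4 c))) (B.vel_mem (ds_lt (h4 c'))) (congrArg Subtype.val e)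
    have h0 : ds (4 * Nat.xor c.1 c'.1) = 0 := by
      rw [← four_xor, ds_xor, B.vel_inj (ds_lt (h4 c)) (ds_lt (h4 c')) e1]
      exact Nat.xor_self _
    have h := forallLt_elim ds_inj (Nat.xor_lt_two_pow (n := 9) c.2 c'.2)
    change (Nat.beq (Nat.xor c.1 c'.1) 0 || !Nat.beq (ds (4 * Nat.xor c.1 c'.1)) 0) = true at h
    rw [h0, Bool.or_eq_true] at h
    rcases h with h | h
    · refine Prod.ext (Fin.ext (Nat.xor_eq_zero_iff.1 (Nat.eq_of_beq_eq_true h))) ?_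
      have := prod_injective (a₁ := (i, 0)) (a₂ := (i', 0)) (by
        show rσ i.1 * hσ _ = rσ i'.1 * hσ _
        rw [e2])
      exact (Prod.mk.inj this).1
    · exact absurd h (by simp)
  have hb := hf.bijective_of_nat_card_le (by
    rw [(T.cards hG hJ).2.2, Nat.card_prod, Nat.card_fin, Nat.card_fin]; norm_num)
  obtain ⟨⟨c, i⟩, e⟩ := hb.2 ⟨x, hx⟩
  exact ⟨_, h4 c, i, i.2, (congrArg Subtype.val e).symm⟩

/-- Commutators of the two parts lie in the elementary group of order eight. -/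
theorem comm_mem_W (i : ℕ) : ∀ {n : ℕ}, n < 2048 →
    T.κ (rσ i) * B.vel (ds n) * (T.κ (rσ i))⁻¹ * (B.vel (ds n))⁻¹ ∈ B.trioW := by
  intro n hn
  refine rσ_induction (P := fun q => T.κ q * B.vel (ds n) * (T.κ q)⁻¹ * (B.vel (ds n))⁻¹ ∈ B.trioW) ?_ ?_ i
  · simp
  intro k hk q hq
  have hgC := T.g_mem_C (k := 4 + k) (by omega) (by omega) (by omega)
  have hbase : T.g (4 + k) * B.vel (ds n) * (T.g (4 + k))⁻¹ * (B.vel (ds n))⁻¹ ∈ B.trioW := by
    refine (code_induction (P := fun n => n < 2048 ∧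
      T.g (4 + k) * B.vel (ds n) * (T.g (4 + k))⁻¹ * (B.vel (ds n))⁻¹ ∈ B.trioW)
      ⟨by norm_num, by rw [ds_zero, vel_zero]; simp⟩ (fun a b ha hb => ?_) (fun j hj => ?_) hn).2
    · refine ⟨Nat.xor_lt_two_pow (n := 11) ha.1 hb.1, ?_⟩
      have hla := ds_lt ha.1
      have hlb := ds_lt hb.1
      rw [ds_xor, ← B.vel_xor]
      set g := T.g (4 + k)
      set x := B.vel (ds a)
      set y := B.vel (ds b)
      have hcom : Commute (g * y * g⁻¹ * y⁻¹) x⁻¹ :=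
        (B.commute_V (B.trioW_le_V hb.2) (B.vel_mem hla)).inv_right
      rw [show g * (x * y) * g⁻¹ * (x * y)⁻¹ = (g * x * g⁻¹) * ((g * y * g⁻¹ * y⁻¹) * x⁻¹) by group, hcom.eq,
        show (g * x * g⁻¹) * (x⁻¹ * (g * y * g⁻¹ * y⁻¹)) = (g * x * g⁻¹ * x⁻¹) * (g * y * g⁻¹ * y⁻¹) by group]
      exact mul_mem ha.2 hb.2
    · have hlt : 2 ^ j < 2048 := Nat.pow_lt_pow_right (by norm_num) hj (a := 2) |>.trans_le (by norm_num)
      refine ⟨hlt, ?_⟩
      rw [T.conj_gσ (by omega) (ds_lt hlt), inv_eq_of_mul_eq_one_right (B.vel_sq _), B.vel_xor,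
        show Nat.xor (tA (4 + k) (ds (2 ^ j))) (ds (2 ^ j)) = Nat.xor (ds (2 ^ j)) (tA (4 + k) (ds (2 ^ j))) from
          Nat.xor_comm _ _]
      exact B.inW_mem (Nat.xor_lt_two_pow (n := 11) (ds_lt hlt) (tA_lt (by omega) (ds_lt hlt)))
        (forallLt_elim (forallLt_elim comm_W hk) hj)
  have hfix : T.g (4 + k) * (T.κ q * B.vel (ds n) * (T.κ q)⁻¹ * (B.vel (ds n))⁻¹) * (T.g (4 + k))⁻¹ =
      T.κ q * B.vel (ds n) * (T.κ q)⁻¹ * (B.vel (ds n))⁻¹ := by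
    rw [← Subgroup.mem_centralizer_iff.1 hgC _ hq, mul_inv_cancel_right]
  rw [map_mul, show T.κ (gσ (4 + k)) * T.κ q * B.vel (ds n) * (T.κ (gσ (4 + k)) * T.κ q)⁻¹ * (B.vel (ds n))⁻¹ =
    (T.g (4 + k) * (T.κ q * B.vel (ds n) * (T.κ q)⁻¹ * (B.vel (ds n))⁻¹) * (T.g (4 + k))⁻¹) *
      (T.g (4 + k) * B.vel (ds n) * (T.g (4 + k))⁻¹ * (B.vel (ds n))⁻¹) by group, hfix]
  exact mul_mem hq hbase

include T in
/-- The centre of `L` and the commutators. -/
theorem L_facts (hG : ¬ IsMulCommutative G) (hJ : IsOfJankoFourType G) :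
    (∀ x ∈ B.trioL, (∀ y ∈ B.trioL, Commute x y) ↔ x ∈ B.trioW) ∧
      (∀ x ∈ B.trioL, x * x ∈ B.trioW) ∧ (∀ x ∈ B.trioL, ∀ y ∈ B.trioL, x * y * x⁻¹ * y⁻¹ ∈ B.trioW) := by
  have hWc : ∀ {w x : G}, w ∈ B.trioW → x ∈ B.trioL → Commute w x := fun hw hx =>
    Subgroup.mem_centralizer_iff.1 (B.trioL_le hx).1 _ hw
  refine ⟨fun x hx => ⟨fun h => ?_, fun h y hy => hWc h hy⟩, fun x hx => ?_, fun x hx y hy => ?_⟩
  · obtain ⟨n, hn, i, hi, rfl⟩ := T.L_form hG hJ hx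
    have hi0 : i = 0 := by
      have hf := forallLt_elim faithful hi
      simp only [Bool.or_eq_true, Bool.not_eq_true', Nat.beq_eq] at hf
      refine hf.resolve_right fun e => ?_
      have : CfsgLib.Sporadic.forallLt 11 (fun j => Nat.beq (rA i (ds (2 ^ j))) (ds (2 ^ j))) = true := by
        rw [CfsgLib.Sporadic.forallLt_iff]
        intro j hj
        have hlt : 2 ^ j < 2048 := (Nat.pow_lt_pow_right (by norm_num) hj (a := 2)).trans_le (by norm_num)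
        obtain ⟨hc, hrl⟩ := T.conj_rσ i (ds_lt hlt)
        have hcm : Commute (T.κ (rσ i)) (B.vel (ds (2 ^ j))) := by
          have h1 := h _ (T.ds_mem_L hG hJ hlt)
          have h2 := (B.vel_comm (ds n) (ds (2 ^ j))).inv_left.mul_left h1
          rwa [inv_mul_cancel_left] at h2
        rw [hcm.eq, mul_inv_cancel_right] at hc
        rw [Nat.beq_eq]
        exact (B.vel_inj (ds_lt hlt) hrl hc).symm
      rw [this] at e
      exact Bool.noConfusion e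
    subst hi0
    rw [show T.κ (rσ 0) = 1 by rw [show rσ 0 = 1 from rfl]; exact map_one _, mul_one] at h ⊢
    refine B.inW_mem (ds_lt hn) ?_
    have hm := forallLt_elim fixed_mask (ds_lt hn)
    have hmask := forallLt_elim mask_ok hn
    rw [Bool.and_eq_true] at hmask
    simp only [hmask.1, Bool.not_true, Bool.false_or, Bool.or_eq_true, Bool.not_eq_true'] at hm
    refine hm.resolve_right fun e => ?_
    have : CfsgLib.Sporadic.forallLt 6 (fun k => Nat.beq (tA (4 + k) (ds n)) (ds n)) = true := by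
      rw [CfsgLib.Sporadic.forallLt_iff]
      intro k hk
      have hc := T.conj_gσ (k := 4 + k) (by omega) (ds_lt hn)
      rw [← (h _ (T.rb_mem_L hG hJ hk)).eq, mul_inv_cancel_right] at hc
      rw [Nat.beq_eq]
      exact (B.vel_inj (ds_lt hn) (tA_lt (by omega) (ds_lt hn)) hc).symm
    rw [this] at e
    exact Bool.noConfusion e
  · obtain ⟨n, hn, i, hi, rfl⟩ := T.L_form hG hJ hx
    set v := B.vel (ds n)
    set k := T.κ (rσ i)
    have hk : k * k = 1 := by rw [← map_mul, rσ_sq, map_one]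
    have hw := T.comm_mem_W i hn
    have e : v * k * (v * k) = v * (k * v * k⁻¹ * v⁻¹) * v * (k * k) := by group
    change k * v * k⁻¹ * v⁻¹ ∈ B.trioW at hw
    have hvw : Commute v (k * v * k⁻¹ * v⁻¹) := (hWc hw (T.ds_mem_L hG hJ hn)).symm
    rw [e, hk, mul_one, hvw.eq, mul_assoc, show v * v = 1 from B.vel_sq _, mul_one]
    exact hw
  · obtain ⟨n, hn, i, -, rfl⟩ := T.L_form hG hJ hx
    obtain ⟨m, hm, j, -, rfl⟩ := T.L_form hG hJ hy
    set v := B.vel (ds n) with hv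
    set v' := B.vel (ds m) with hv'
    set k := T.κ (rσ i)
    set k' := T.κ (rσ j)
    have hw : k * v' * k⁻¹ * v'⁻¹ ∈ B.trioW := T.comm_mem_W i hm
    have hw' : k' * v * k'⁻¹ * v⁻¹ ∈ B.trioW := T.comm_mem_W j hn
    have hvL := T.ds_mem_L hG hJ hn
    have hvL' := T.ds_mem_L hG hJ hm
    set w := k * v' * k⁻¹ * v'⁻¹ with hwd
    set w' := k' * v * k'⁻¹ * v⁻¹ with hwd'
    have hkk : Commute k k' := by
      show _ = _
      rw [← map_mul, ← map_mul, (rσ_comm' i j).eq]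
    have e1 : v * k * (v' * k') = w * (v * v' * (k * k')) := by
      calc v * k * (v' * k') = v * w * (v' * (k * k')) := by rw [hwd]; group
        _ = w * v * (v' * (k * k')) := by rw [(hWc hw hvL).eq]
        _ = _ := by group
    have e2 : v' * k' * (v * k) = w' * (v * v' * (k * k')) := by
      calc v' * k' * (v * k) = v' * w' * (v * (k' * k)) := by rw [hwd']; group
        _ = w' * v' * (v * (k' * k)) := by rw [(hWc hw' hvL').eq]
        _ = w' * ((v' * v) * (k' * k)) := by group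
        _ = _ := by rw [(B.vel_comm (ds m) (ds n) : Commute v' v).eq, hkk.eq]
    rw [show v * k * (v' * k') * (v * k)⁻¹ * (v' * k')⁻¹ = v * k * (v' * k') * (v' * k' * (v * k))⁻¹ by group, e1, e2,
      show w * (v * v' * (k * k')) * (w' * (v * v' * (k * k')))⁻¹ = w * w'⁻¹ by group]
    exact mul_mem hw (inv_mem hw')

include T in
/-- `L` is special with centre of order eight. -/
theorem special (hG : ¬ IsMulCommutative G) (hJ : IsOfJankoFourType G) :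
    Cfsg.IsSpecial 2 ↥B.trioL ∧ Nat.card ↥B.trioL = 2 ^ 15 ∧
      Subgroup.center ↥B.trioL = B.trioW.subgroupOf B.trioL ∧ Nat.card ↥(Subgroup.center ↥B.trioL) = 8 := by
  haveI : Fact (Nat.Prime 2) := ⟨Nat.prime_two⟩
  have hcard := (T.cards hG hJ).2.2
  have hP : IsPGroup 2 ↥B.trioL := IsPGroup.of_card hcard
  obtain ⟨hZ, hsq, hcomm⟩ := T.L_facts hG hJ
  have hWL := T.trioW_le_L hG hJ
  have hcen : Subgroup.center ↥B.trioL = B.trioW.subgroupOf B.trioL := by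
    ext x
    rw [Subgroup.mem_center_iff, Subgroup.mem_subgroupOf, ← hZ x x.2]
    exact ⟨fun h y hy => (congrArg Subtype.val (h ⟨y, hy⟩)).symm, fun h y => Subtype.ext (h y y.2).eq.symm⟩
  have hc8 : Nat.card ↥(Subgroup.center ↥B.trioL) = 8 := by
    rw [hcen, Nat.card_congr (Subgroup.subgroupOfEquivOfLe hWL).toEquiv, B.card_trioW]
  have hle : commutator ↥B.trioL ≤ Subgroup.center ↥B.trioL := by
    rw [hcen, commutator_def, Subgroup.commutator_le]
    exact fun a _ b _ => hcomm a a.2 b b.2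
  have hge : Subgroup.center ↥B.trioL ≤ commutator ↥B.trioL := by
    rw [hcen]
    -- the three generators as commutators
    have key : ∀ k m, k < 6 → m < 2048 → ∀ w, Nat.xor (ds m) (tA (4 + k) (ds m)) = w →
        ∀ hw : B.vel w ∈ B.trioL, (⟨B.vel w, hw⟩ : ↥B.trioL) ∈ commutator ↥B.trioL := by
      intro k m hk hm w e hw
      have h1 : (⟨T.g (4 + k), T.rb_mem_L hG hJ hk⟩ : ↥B.trioL) * ⟨B.vel (ds m), T.ds_mem_L hG hJ hm⟩ *
          (⟨T.g (4 + k), T.rb_mem_L hG hJ hk⟩ : ↥B.trioL)⁻¹ *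
            (⟨B.vel (ds m), T.ds_mem_L hG hJ hm⟩ : ↥B.trioL)⁻¹ = ⟨B.vel w, hw⟩ := Subtype.ext (by
        show T.g (4 + k) * B.vel (ds m) * (T.g (4 + k))⁻¹ * (B.vel (ds m))⁻¹ = B.vel w
        rw [T.conj_gσ (by omega) (ds_lt hm), inv_eq_of_mul_eq_one_right (B.vel_sq _), B.vel_xor, ← e]
        exact congrArg B.vel (Nat.xor_comm _ _))
      rw [← h1]
      exact Subgroup.commutator_mem_commutator (Subgroup.mem_top _) (Subgroup.mem_top _)
    obtain ⟨hw1, hw10, hw20⟩ := B.trioW_gen_mem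
    have hck : Nat.xor (ds 128) (tA 7 (ds 128)) = 1 ∧ Nat.xor (ds 1088) (tA 4 (ds 1088)) = 10 ∧
        Nat.xor (ds 96) (tA 5 (ds 96)) = 20 := by decide +kernel
    have m1 := key 3 128 (by norm_num) (by norm_num) 1 hck.1 (hWL hw1)
    have m10 := key 0 1088 (by norm_num) (by norm_num) 10 hck.2.1 (hWL hw10)
    have m20 := key 1 96 (by norm_num) (by norm_num) 20 hck.2.2 (hWL hw20)
    have e : ∀ {a b c : ℕ} {ha : B.vel a ∈ B.trioL} {hb : B.vel b ∈ B.trioL}, Nat.xor a b = c →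
        (⟨B.vel a, ha⟩ : ↥B.trioL) ∈ commutator ↥B.trioL → (⟨B.vel b, hb⟩ : ↥B.trioL) ∈ commutator ↥B.trioL →
        ∀ hc : B.vel c ∈ B.trioL, (⟨B.vel c, hc⟩ : ↥B.trioL) ∈ commutator ↥B.trioL := by
      intro a b c ha hb e h1 h2 hc
      have := mul_mem h1 h2
      rwa [show (⟨B.vel a, ha⟩ * ⟨B.vel b, hb⟩ : ↥B.trioL) = ⟨B.vel c, hc⟩ from
        Subtype.ext (by show B.vel a * B.vel b = _; rw [B.vel_xor, e])] at this
    rintro ⟨x, hx⟩ hxW
    obtain ⟨i, rfl⟩ := (Subgroup.mem_subgroupOf.1 hxW : x ∈ B.trioW)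
    obtain ⟨d3, d5, d6, d7⟩ : Nat.xor 1 10 = 11 ∧ Nat.xor 1 20 = 21 ∧ Nat.xor 10 20 = 30 ∧ Nat.xor 11 20 = 31 := by
      decide +kernel
    fin_cases i
    · rw [show (⟨_, hx⟩ : ↥B.trioL) = 1 from Subtype.ext B.vel_zero]; exact one_mem _
    exacts [m1, m10, e d3 m1 m10 hx, m20, e d5 m1 m20 hx, e d6 m10 m20 hx,
      e d7 (e d3 m1 m10 (hWL ⟨3, rfl⟩)) m20 hx]
  refine ⟨⟨hP, le_antisymm ?_ ?_, le_antisymm hle hge⟩, hcard, hcen, hc8⟩
  · refine CfsgLib.PGroups.frattini_le_of_elementary (p := 2) hle fun x => ?_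
    rw [hcen, Subgroup.mem_subgroupOf, pow_two]
    exact hsq x x.2
  · exact hge.trans (CfsgLib.PGroups.commutator_le_frattini' hP)

end TrioLift

end CfsgLib.JankoFourTrio
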