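import Cfsg.Agent.Lib.JankoFourTrio.Lift

/-!
# The lifts act on the codes by the certified tables (owner: helper28)
-/

set_option autoImplicit false
set_option linter.unusedSectionVars false
set_option maxRecDepth 100000

namespace CfsgLib.JankoFourTrio

open Cfsg CfsgLib.ThreeTrans
open CfsgLib.JankoFour CfsgLib.JankoFour.HexBase
open CfsgLib.JankoFourHexad
open CfsgLib.Sporadic (Rep pget pt ix ix_pt pt_ix forallLt_elim xorComb xorComb_succ pone)

variable {G : Type*} [Group G] [Finite G] {S : Setting G}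

/-- A lift of the Mathieu group to the normalizer of `V`. -/
structure TrioLift (B : HexBase S) where
  /-- the lift -/
  κ : ↥M24 →* G
  mem : ∀ σ, κ σ ∈ B.NV
  moves : ∀ σ : ↥M24, B.Moves24 (κ σ) (σ : Equiv.Perm GolayPt)

theorem exists_trioLift (B : HexBase S) [IsSimpleGroup G] (hG : ¬ IsMulCommutative G)
    (hJ : IsOfJankoFourType G) : Nonempty (TrioLift B) := by
  classical
  obtain ⟨Φ, hΦ, hker, hmov⟩ := B.exists_phi hG hJ
  obtain ⟨K, hKN, hKV, hKV', -⟩ := B.exists_complement hG hJ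
  let ψ : ↥K →* ↥M24 := Φ.comp (Subgroup.inclusion hKN)
  have hinj : Function.Injective ψ := (injective_iff_map_eq_one _).2 fun k hk => by
    have h := (hker (Subgroup.inclusion hKN k)).1 hk
    refine Subtype.ext ?_
    have hm : (k : G) ∈ K ⊓ B.V := ⟨k.2, h⟩
    rw [hKV] at hm
    exact Subgroup.mem_bot.1 hm
  have hsurj : Function.Surjective ψ := by
    intro σ
    obtain ⟨m, rfl⟩ := hΦ σ
    have hm : (m : G) ∈ K ⊔ B.V := by rw [hKV']; exact m.2
    rw [← SetLike.mem_coe, Subgroup.coe_mul_of_left_le_normalizer_right K B.V hKN] at hm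
    obtain ⟨k, hk, v, hv, e⟩ := hm
    refine ⟨⟨k, hk⟩, ?_⟩
    show Φ ⟨k, _⟩ = Φ m
    have h1 : Φ ((⟨k, hKN hk⟩ : ↥B.NV)⁻¹ * m) = 1 := (hker _).2 (by
      show k⁻¹ * (m : G) ∈ B.V
      rw [← show k * v = (m : G) from e, inv_mul_cancel_left]; exact hv)
    rwa [map_mul, map_inv, inv_mul_eq_one] at h1
  let e := MulEquiv.ofBijective ψ ⟨hinj, hsurj⟩
  refine ⟨⟨K.subtype.comp e.symm.toMonoidHom, fun σ => hKN (e.symm σ).2, fun σ => ?_⟩⟩
  have h := hmov (Subgroup.inclusion hKN (e.symm σ))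
  rwa [show Φ (Subgroup.inclusion hKN (e.symm σ)) = σ from e.apply_symm_apply σ] at h

/-- A property of codes closed under sums holds of every code once it holds of the basis. -/
theorem code_induction {P : ℕ → Prop} (h0 : P 0) (hx : ∀ a b, P a → P b → P (Nat.xor a b))
    (hb : ∀ j < 11, P (2 ^ j)) {n : ℕ} (hn : n < 2048) : P n := by
  have hid : ∀ n : Fin 2048, xorComb (fun j => 2 ^ j) n.1 11 = n.1 := by decide +kernel
  rw [show n = xorComb (fun j => 2 ^ j) n 11 from (hid ⟨n, hn⟩).symm]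
  have key : ∀ k ≤ 11, P (xorComb (fun j => 2 ^ j) n k) := by
    intro k
    induction k with
    | zero => exact fun _ => h0
    | succ k ih =>
      intro hk
      rw [xorComb_succ]
      refine hx _ _ (ih (by omega)) ?_
      rcases Bool.eq_false_or_eq_true (n.testBit k) with e | e <;>
        rw [CfsgLib.Sporadic.bitAt_eq, e] <;> simp only [Bool.false_eq_true, if_true, if_false, one_mul, zero_mul]
      exacts [hb k (by omega), h0]
  exact key 11 le_rfl

theorem tA_xor (k a b : ℕ) : tA k (Nat.xor a b) = Nat.xor (tA k a) (tA k b) :=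
  CfsgLib.Sporadic.xorComb_xor _ a b 11

theorem tA_zero (k : ℕ) : tA k 0 = 0 := by
  have h := tA_xor k 0 0
  rw [show Nat.xor 0 0 = 0 from rfl] at h
  rw [h]; exact Nat.xor_self _

theorem tA_basis {k j : ℕ} (hk : k < 10) (hj : j < 11) : tA k (2 ^ j) = (trioTabs.getD k []).getD j 0 := by
  have h : ∀ k : Fin 10, ∀ j : Fin 11,
      Nat.beq (tA k.1 (2 ^ j.1)) ((trioTabs.getD k.1 []).getD j.1 0) = true := by decide +kernel
  exact Nat.eq_of_beq_eq_true (h ⟨k, hk⟩ ⟨j, hj⟩)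

theorem pc_eq {a b : ℕ} (ha : a < 24) (hb : b < 24) : pc a b = pairCode (pt a) (pt b) := by
  show lamI (_ ^^^ _) = lamI (LargeFischer.vI (ix (pt a)) ^^^ LargeFischer.vI (ix (pt b)))
  rw [ix_pt ha, ix_pt hb]

namespace TrioLift

variable {B : HexBase S} (T : TrioLift B)

theorem pcSum_lt {σ : Equiv.Perm GolayPt} {p : ℕ} (hp : Rep σ p) :
    ∀ l : List (ℕ × ℕ), (∀ ab ∈ l, ab.1 < 24 ∧ ab.2 < 24) → pcSum p l < 2048
  | [], _ => by norm_num [pcSum]
  | ab :: l, h => by
    show Nat.xor (pc _ _) (pcSum p l) < 2048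
    obtain ⟨ha, hb⟩ := h ab (List.mem_cons_self ..)
    refine Nat.xor_lt_two_pow (n := 11) ?_ (pcSum_lt hp l fun x hx => h x (List.mem_cons_of_mem _ hx))
    rw [show pget p ab.1 = ix (σ (pt ab.1)) by rw [← hp (pt ab.1), ix_pt ha],
      show pget p ab.2 = ix (σ (pt ab.2)) by rw [← hp (pt ab.2), ix_pt hb],
      pc_eq (CfsgLib.Sporadic.ix_lt _) (CfsgLib.Sporadic.ix_lt _)]
    exact pairCode_lt _ _

theorem act_pcSum (σ : ↥M24) {p : ℕ} (hp : Rep (σ : Equiv.Perm GolayPt) p) :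
    ∀ l : List (ℕ × ℕ), (∀ ab ∈ l, ab.1 < 24 ∧ ab.2 < 24) → B.act (T.κ σ) (pcSum pone l) = pcSum p l
  | [], _ => B.act_zero (T.mem σ)
  | ab :: l, h => by
    obtain ⟨ha, hb⟩ := h ab (List.mem_cons_self ..)
    show B.act _ (_ ^^^ pcSum pone l) = pc _ _ ^^^ pcSum p l
    rw [B.act_xor (T.mem σ), act_pcSum σ hp l fun x hx => h x (List.mem_cons_of_mem _ hx)]
    congr 1
    have e1 : ∀ {i}, i < 24 → pget pone i = i := fun {i} hi => by
      have := CfsgLib.Sporadic.Rep.one (pt i)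
      rwa [ix_pt hi, Equiv.Perm.one_apply, ix_pt hi] at this
    rw [e1 ha, e1 hb, pc_eq ha hb, T.moves σ,
      show pget p ab.1 = ix ((σ : Equiv.Perm GolayPt) (pt ab.1)) by rw [← hp (pt ab.1), ix_pt ha],
      show pget p ab.2 = ix ((σ : Equiv.Perm GolayPt) (pt ab.2)) by rw [← hp (pt ab.2), ix_pt hb],
      pc_eq (CfsgLib.Sporadic.ix_lt _) (CfsgLib.Sporadic.ix_lt _), pt_ix, pt_ix]

theorem act_gσ {k : ℕ} (hk : k < 10) {n : ℕ} (hn : n < 2048) : B.act (T.κ (gσ k)) n = tA k n := by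
  refine code_induction (P := fun n => B.act (T.κ (gσ k)) n = tA k n) (by rw [B.act_zero (T.mem _), tA_zero])
    (fun a b ea eb => ?_) (fun j hj => ?_) hn
  · show B.act _ (a ^^^ b) = _
    rw [B.act_xor (T.mem _), ea, eb, tA_xor]; rfl
  · have h := forallLt_elim pairs_ok hj
    simp only [Bool.and_eq_true, List.all_eq_true, Nat.blt_eq] at h
    obtain ⟨⟨e, hl⟩, hk'⟩ := h
    rw [tA_basis hk hj, ← Nat.eq_of_beq_eq_true e, T.act_pcSum _ (rep_gσ hk) _ hl]
    exact Nat.eq_of_beq_eq_true (forallLt_elim hk' hk)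

theorem conj_gσ {k : ℕ} (hk : k < 10) {n : ℕ} (hn : n < 2048) :
    T.κ (gσ k) * B.vel n * (T.κ (gσ k))⁻¹ = B.vel (tA k n) := by
  rw [← T.act_gσ hk hn, B.vel_act (T.mem _) hn]

theorem tA_lt {k : ℕ} (hk : k < 10) {n : ℕ} (hn : n < 2048) : tA k n < 2048 :=
  code_induction (P := fun n => tA k n < 2048) (by rw [tA_zero]; norm_num)
    (fun a b ha hb => by rw [tA_xor]; exact Nat.xor_lt_two_pow (n := 11) ha hb) (fun j hj => by
    have h : ∀ k : Fin 10, ∀ j : Fin 11, Nat.blt (tA k.1 (2 ^ j.1)) 2048 = true := by decide +kernel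
    have := h ⟨k, hk⟩ ⟨j, hj⟩
    rwa [Nat.blt_eq] at this) hn

theorem conj_rσ (i : ℕ) : ∀ {n : ℕ}, n < 2048 → T.κ (rσ i) * B.vel n * (T.κ (rσ i))⁻¹ = B.vel (rA i n) ∧
    rA i n < 2048 := by
  intro n hn
  have key : ∀ m ≤ 6, T.κ (Nat.rec 1 (fun j q => if Nat.testBit i j then gσ (4 + j) * q else q) m : ↥M24) * B.vel n *
      (T.κ (Nat.rec 1 (fun j q => if Nat.testBit i j then gσ (4 + j) * q else q) m : ↥M24))⁻¹ =
        B.vel (Nat.rec n (fun j q => if Nat.testBit i j then tA (4 + j) q else q) m) ∧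
      (Nat.rec n (fun j q => if Nat.testBit i j then tA (4 + j) q else q) m : ℕ) < 2048 := by
    intro m
    induction m with
    | zero => exact fun _ => ⟨by simp, hn⟩
    | succ m ih =>
      intro hm
      obtain ⟨ih, hlt⟩ := ih (by omega)
      dsimp only
      split
      · refine ⟨?_, tA_lt (by omega) hlt⟩
        rw [← T.conj_gσ (by omega) hlt, ← ih, map_mul]; group
      · exact ⟨ih, hlt⟩
  exact key 6 le_rfl

end TrioLift

end CfsgLib.JankoFourTrio
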