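import Cfsg.Agent.Lib.JankoFourTrio.Main

/-!
# The two-local subgroup of the trio, given the local structure at five and seven (owner: helper28)
-/

set_option autoImplicit false

namespace CfsgLib.JankoFourTrio

open Cfsg CfsgLib.JankoFour

/-- The trio two-local, given the order of the normalizers of subgroups of order five and seven. -/
theorem trio_of_local {G : Type*} [Group G] [Finite G] [IsSimpleGroup G] (hG : ¬ IsMulCommutative G)
    (hJ : IsOfJankoFourType G)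
    (h5 : ∀ (z : G), IsOfJankoFourTypeAt z → ∀ Q : Subgroup G, Nat.card ↥Q = 5 →
      Q ≤ Subgroup.centralizer ({z} : Set G) →
      ¬ (25 ∣ Nat.card G) ∧ Nat.card ↥(Subgroup.normalizer (Q : Set G)) = 2 ^ 8 * 3 * 5 * 7)
    (h7 : ∀ (z : G), IsOfJankoFourTypeAt z → ∀ R : Subgroup G, Nat.card ↥R = 7 →
      R ≤ Subgroup.centralizer ({z} : Set G) → ¬ (49 ∣ Nat.card G) ∧
      (∃ I : Subgroup G, I ≤ Subgroup.centralizer (R : Set G) ∧ Nonempty (↥I ≃* Equiv.Perm (Fin 5))) ∧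
      Nat.card ↥(Subgroup.normalizer (R : Set G)) = 2 ^ 3 * 3 ^ 2 * 5 * 7) :
    ∃ L : Subgroup G, Cfsg.IsSpecial 2 ↥L ∧ Nat.card ↥L = 2 ^ 15 ∧ Nat.card ↥(Subgroup.center ↥L) = 8 ∧
    Nonempty (↥(Subgroup.normalizer (L : Set G)) ⧸ L.subgroupOf (Subgroup.normalizer (L : Set G)) ≃* Equiv.Perm (Fin 5) × Matrix.SpecialLinearGroup (Fin 3) (ZMod 2)) ∧
    (∀ K : Subgroup ↥(Subgroup.normalizer (L : Set G)), ¬ (L.subgroupOf (Subgroup.normalizer (L : Set G))).IsComplement' K) ∧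
    (∃ K₁ : Subgroup G, K₁ ≤ Subgroup.normalizer (L : Set G) ∧ Nonempty (↥K₁ ≃* Equiv.Perm (Fin 5))) ∧
    (∃ K₂ : Subgroup G, K₂ ≤ Subgroup.normalizer (L : Set G) ∧ Nonempty (↥K₂ ≃* Matrix.SpecialLinearGroup (Fin 3) (ZMod 2))) ∧
    (∃ Q : Sylow 5 G, Subgroup.normalizer ((Q : Subgroup G) : Set G) ≤ Subgroup.normalizer (L : Set G)) ∧
    (∃ S : Sylow 7 G, Subgroup.normalizer ((S : Subgroup G) : Set G) ≤ Subgroup.normalizer (L : Set G)) := by
  obtain ⟨z, P, hP⟩ := id hJ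
  obtain ⟨S, hz, -⟩ := exists_setting hP
  obtain ⟨B⟩ := S.exists_hexBase
  obtain ⟨T⟩ := exists_trioLift B hG hJ
  exact T.trio_theorem hG hJ (fun Q hQ hQH => h5 z ⟨P, hP⟩ Q hQ (hz ▸ hQH))
    (fun R hR hRH => h7 z ⟨P, hP⟩ R hR (hz ▸ hRH))

end CfsgLib.JankoFourTrio
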