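import Cfsg.Agent.Lib.JankoFourTrio.Upper

/-!
# The centralizer of the elementary group of order eight acts on five cosets (owner: helper28)
-/

set_option autoImplicit false
set_option linter.unusedSectionVars false
set_option maxRecDepth 100000

namespace CfsgLib.JankoFourTrio

open Cfsg CfsgLib.ThreeTrans
open CfsgLib.JankoFour CfsgLib.JankoFour.HexBase
open CfsgLib.JankoFourHexad
open CfsgLib.Sporadic (forallLt_elim)

variable {G : Type*} [Group G] [Finite G] {S : Setting G} {B : HexBase S}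

namespace TrioLift

variable (T : TrioLift B)

/-- A certified permutation lifted. -/
noncomputable abbrev g (k : ℕ) : G := T.κ (gσ k)

theorem commute_vel {k : ℕ} (hk : k < 10) {n : ℕ} (hn : n < 2048) (h : tA k n = n) :
    Commute (T.g k) (B.vel n) := by
  have e := T.conj_gσ hk hn
  rw [h] at e
  exact mul_inv_eq_iff_eq_mul.1 e

theorem g_mem_C {k : ℕ} (hk : k < 10) (h2 : k ≠ 2) (h3 : k ≠ 3) : T.g k ∈ B.trioC := by
  have h := forallLt_elim tabs_fix hk
  simp only [Bool.or_eq_true, Bool.and_eq_true, Nat.beq_eq] at h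
  rcases h with (h | h) | ⟨⟨e1, e10⟩, e20⟩
  · exact absurd h h2
  · exact absurd h h3
  exact B.mem_trioC.2 ⟨T.commute_vel hk (by norm_num) e1, T.commute_vel hk (by norm_num) e10,
    T.commute_vel hk (by norm_num) e20⟩

theorem rσ_mem_C (i : ℕ) : T.κ (rσ i) ∈ B.trioC :=
  rσ_induction (P := fun q => T.κ q ∈ B.trioC) (by rw [map_one]; exact one_mem _)
    (fun j hj q hq => by rw [map_mul]; exact mul_mem (T.g_mem_C (by omega) (by omega) (by omega)) hq) i

theorem hσ_mem_C (h : ℕ) : T.κ (hσ h) ∈ B.trioC := by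
  rw [hσ, map_mul, map_pow, map_pow]
  exact mul_mem (pow_mem (T.g_mem_C (by norm_num) (by norm_num) (by norm_num)) _)
    (pow_mem (T.g_mem_C (by norm_num) (by norm_num) (by norm_num)) _)

theorem eq_one_of_mem_V {σ : ↥M24} (h : T.κ σ ∈ B.V) : σ = 1 := by
  refine Subtype.ext (B.moves24_unique (T.moves σ) fun x y => ?_)
  refine B.act_eq (T.mem σ) (pairCode_lt x y) (pairCode_lt x y) ?_
  rw [(B.commute_V h (B.vel_mem (pairCode_lt x y))).eq, mul_inv_cancel_right]
  rfl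

theorem split_unique {v v' : G} (hv : v ∈ B.V) (hv' : v' ∈ B.V) {σ σ' : ↥M24} (e : v * T.κ σ = v' * T.κ σ') :
    v = v' ∧ σ = σ' := by
  have h : σ * σ'⁻¹ = 1 := T.eq_one_of_mem_V (by
    rw [map_mul, map_inv, show T.κ σ * (T.κ σ')⁻¹ = v⁻¹ * (v * T.κ σ) * (T.κ σ')⁻¹ by group, e]
    rw [show v⁻¹ * (v' * T.κ σ') * (T.κ σ')⁻¹ = v⁻¹ * v' by group]
    exact mul_mem (inv_mem hv) hv')
  obtain rfl := mul_inv_eq_one.1 h
  exact ⟨mul_right_cancel e, rfl⟩

/-- The intersection of the centralizer with the normalizer of `V`. -/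
theorem vel_mem_C {n : ℕ} (hn : n < 2048) : B.vel n ∈ B.trioC :=
  B.mem_trioC.2 ⟨B.vel_comm _ _, B.vel_comm _ _, B.vel_comm _ _⟩

include T in
theorem card_TC_ge : 2 ^ 18 * 3 ≤ Nat.card ↥(B.trioC ⊓ B.NV : Subgroup G) := by
  let f : Fin 2048 × Fin 64 × Fin 6 → ↥(B.trioC ⊓ B.NV : Subgroup G) := fun x =>
    ⟨B.vel x.1.1 * T.κ (rσ x.2.1.1 * hσ x.2.2.1), mul_mem (vel_mem_C x.1.2)
      (by rw [map_mul]; exact mul_mem (T.rσ_mem_C _) (T.hσ_mem_C _)),
      mul_mem (Subgroup.le_normalizer (B.vel_mem x.1.2)) (T.mem _)⟩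
  have hf : Function.Injective f := by
    rintro ⟨n, y⟩ ⟨n', y'⟩ e
    obtain ⟨e1, e2⟩ := T.split_unique (B.vel_mem n.2) (B.vel_mem n'.2) (congrArg Subtype.val e)
    exact Prod.ext (Fin.ext (B.vel_inj n.2 n'.2 e1)) (prod_injective e2)
  have := Nat.card_le_card_of_injective f hf
  rw [Nat.card_prod, Nat.card_prod, Nat.card_fin, Nat.card_fin, Nat.card_fin] at this
  omega

end TrioLift

end CfsgLib.JankoFourTrio

namespace CfsgLib.JankoFour

open Cfsg CfsgLib.ThreeTrans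
open CfsgLib.JankoFourHexad CfsgLib.JankoFourTrio
open CfsgLib.Sporadic (forallLt_elim)

variable {G : Type*} [Group G] [Finite G]

namespace HexBase

variable {S : Setting G} (B : HexBase S)

/-- The stabilizer inside the centralizer. -/
abbrev trioT : Subgroup ↥B.trioC := B.NV.subgroupOf B.trioC

/-- The largest subgroup of `N(V)` normalized by the centralizer. -/
def trioL : Subgroup G := B.trioT.normalCore.map B.trioC.subtype

theorem mem_trioL {x : G} : x ∈ B.trioL ↔ x ∈ B.trioC ∧ ∀ c ∈ B.trioC, c * x * c⁻¹ ∈ B.NV := by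
  constructor
  · rintro ⟨⟨y, hy⟩, hc, rfl⟩
    exact ⟨hy, fun c hcC => hc ⟨c, hcC⟩⟩
  · rintro ⟨hx, h⟩
    exact ⟨⟨x, hx⟩, fun c => h c c.2, rfl⟩

theorem trioL_le : B.trioL ≤ B.trioC ⊓ B.NV := fun x hx => by
  obtain ⟨h1, h2⟩ := B.mem_trioL.1 hx
  exact ⟨h1, by simpa using h2 1 (one_mem _)⟩

theorem trioL_conj {x c : G} (hx : x ∈ B.trioL) (hc : c ∈ B.trioC) : c * x * c⁻¹ ∈ B.trioL := by
  obtain ⟨h1, h2⟩ := B.mem_trioL.1 hx
  refine B.mem_trioL.2 ⟨mul_mem (mul_mem hc h1) (inv_mem hc), fun d hd => ?_⟩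
  have := h2 (d * c) (mul_mem hd hc)
  rwa [show d * c * x * (d * c)⁻¹ = d * (c * x * c⁻¹) * d⁻¹ by group] at this

theorem trioL_comm {x c : G} (hx : x ∈ B.trioL) (hc : c ∈ B.trioC) :
    x * c * x⁻¹ * c⁻¹ ∈ B.trioL ∧ c * x * c⁻¹ * x⁻¹ ∈ B.trioL := by
  refine ⟨?_, mul_mem (B.trioL_conj hx hc) (inv_mem hx)⟩
  rw [show x * c * x⁻¹ * c⁻¹ = x * (c * x⁻¹ * c⁻¹) by group]
  exact mul_mem hx (B.trioL_conj (inv_mem hx) hc)

theorem V_le_trioC : B.V ≤ B.trioC := by
  rintro _ ⟨n, hn, rfl⟩; exact TrioLift.vel_mem_C hn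

theorem not_V_le_trioL [IsSimpleGroup G] (hG : ¬ IsMulCommutative G) (hJ : IsOfJankoFourType G) :
    ¬ B.V ≤ B.trioL := fun h => by
  obtain ⟨c, hc, hcN⟩ := B.exists_trioC_out
  exact hcN (B.mem_of_map_le hJ fun v hv => (B.mem_trioL.1 (h hv)).2 c hc)

/-- An element of order dividing seven normalizing the centralizer fixes all cosets. -/
theorem seven_central (hk : B.trioT.index ≤ 5) {s : G} (hs : s ∈ B.NV) (h7 : s ^ 7 = 1)
    (hn : ∀ x, s * x * s⁻¹ ∈ B.trioC ↔ x ∈ B.trioC) {c : G} (hc : c ∈ B.trioC) :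
    c⁻¹ * (s * c * s⁻¹) ∈ B.trioL := by
  classical
  let e : ↥B.trioC ≃ ↥B.trioC :=
    { toFun := fun x => ⟨s * x * s⁻¹, (hn x).2 x.2⟩
      invFun := fun x => ⟨s⁻¹ * x * s, (hn _).1 (by
        rw [show s * (s⁻¹ * (x : G) * s) * s⁻¹ = x by group]; exact x.2)⟩
      left_inv := fun x => Subtype.ext (by show s⁻¹ * (s * (x : G) * s⁻¹) * s = x; group)
      right_inv := fun x => Subtype.ext (by show s * (s⁻¹ * (x : G) * s) * s⁻¹ = x; group) }
  let π : Equiv.Perm (↥B.trioC ⧸ B.trioT) := Quotient.congr e fun x y => by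
    rw [QuotientGroup.leftRel_apply, QuotientGroup.leftRel_apply]
    show _ ↔ (s * (x : G) * s⁻¹)⁻¹ * (s * y * s⁻¹) ∈ B.NV
    rw [show (s * (x : G) * s⁻¹)⁻¹ * (s * y * s⁻¹) = s * ((x : G)⁻¹ * y) * s⁻¹ by group]
    exact ⟨fun h => mul_mem (mul_mem hs h) (inv_mem hs), fun h => by
      have := mul_mem (mul_mem (inv_mem hs) h) hs
      rwa [show s⁻¹ * (s * ((x : G)⁻¹ * y) * s⁻¹) * s = (x : G)⁻¹ * y by group] at this⟩
  have hπ : ∀ (i : ℕ) (x : ↥B.trioC), (π ^ i) (QuotientGroup.mk x) = QuotientGroup.mk ((e ^ i : Equiv.Perm ↥B.trioC) x) := by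
    intro i x
    induction i with
    | zero => simp
    | succ i ih => rw [pow_succ', pow_succ', Equiv.Perm.mul_apply, Equiv.Perm.mul_apply, ih]; rfl
  have he : ∀ (i : ℕ) (x : ↥B.trioC), (((e ^ i : Equiv.Perm ↥B.trioC) x : ↥B.trioC) : G) = s ^ i * x * (s ^ i)⁻¹ := by
    intro i x
    induction i with
    | zero => simp
    | succ i ih =>
      rw [pow_succ', Equiv.Perm.mul_apply]
      show s * _ * s⁻¹ = _
      rw [ih, pow_succ']; group
  have hπ7 : π ^ 7 = 1 := Equiv.ext fun q => QuotientGroup.induction_on q fun x => by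
    rw [hπ, Equiv.Perm.one_apply]
    congr 1
    exact Subtype.ext (by rw [he, h7]; group)
  have hπ1 : π = 1 := by
    have h1 := orderOf_dvd_of_pow_eq_one hπ7
    have h2 : orderOf π ∣ (B.trioT.index).factorial := by
      have := orderOf_dvd_natCard π
      rwa [Nat.card_perm] at this
    rcases (Nat.dvd_prime (by norm_num : Nat.Prime 7)).1 h1 with h | h
    · exact orderOf_eq_one_iff.1 h
    · rw [h] at h2
      have := (Nat.Prime.dvd_factorial (by norm_num : Nat.Prime 7)).1 h2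
      omega
  have key : ∀ x : ↥B.trioC, (x : G)⁻¹ * (s * x * s⁻¹) ∈ B.NV := fun x => by
    have h := congrArg (fun p : Equiv.Perm (↥B.trioC ⧸ B.trioT) => p (QuotientGroup.mk x)) hπ1
    simp only [Equiv.Perm.one_apply] at h
    exact (QuotientGroup.eq (s := B.trioT) (a := x) (b := e x)).1 h.symm
  refine B.mem_trioL.2 ⟨mul_mem (inv_mem hc) ((hn c).2 hc), fun d hd => ?_⟩
  have h1 := key ⟨c * d⁻¹, mul_mem hc (inv_mem hd)⟩
  have h2 := key ⟨d⁻¹, inv_mem hd⟩
  have e2 : d * (c⁻¹ * (s * c * s⁻¹)) * d⁻¹ =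
      ((c * d⁻¹)⁻¹ * (s * (c * d⁻¹) * s⁻¹)) * (d⁻¹⁻¹ * (s * d⁻¹ * s⁻¹))⁻¹ := by group
  rw [e2]
  exact mul_mem h1 (inv_mem h2)

end HexBase

end CfsgLib.JankoFour

namespace CfsgLib.JankoFourTrio

open Cfsg CfsgLib.ThreeTrans
open CfsgLib.JankoFour CfsgLib.JankoFour.HexBase
open CfsgLib.JankoFourHexad
open CfsgLib.Sporadic (forallLt_elim)

variable {G : Type*} [Group G] [Finite G] {S : Setting G} {B : HexBase S}

namespace TrioLift

variable (T : TrioLift B) [IsSimpleGroup G]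

theorem g_order : T.g 0 * T.g 0 * T.g 0 = 1 ∧ T.g 1 * T.g 1 = 1 ∧ T.g 1 * T.g 0 * (T.g 1)⁻¹ = T.g 0 * T.g 0 := by
  obtain ⟨h1, h2, h3, -⟩ := gσ_pow_facts
  have e2 : T.g 1 * T.g 1 = 1 := by rw [← map_mul, h2, map_one]
  refine ⟨by rw [← map_mul, ← map_mul, ← pow_three', h1, map_one], e2, ?_⟩
  rw [inv_eq_of_mul_eq_one_right e2, ← map_mul, ← map_mul, h3, map_mul]

theorem u_not_mem_L (hG : ¬ IsMulCommutative G) (hJ : IsOfJankoFourType G) : T.g 0 ∉ B.trioL := by
  intro h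
  refine B.not_V_le_trioL hG hJ ?_
  have hr : ∀ j < 6, T.g (4 + j) ∈ B.trioL := fun j hj => by
    obtain ⟨-, -, z, -, -, e⟩ := gσ_comm hj
    show T.κ _ ∈ _
    rw [e]
    simp only [map_mul, map_inv]
    exact (B.trioL_comm h (T.rσ_mem_C z)).1
  have hterm : ∀ k n, (k = 0 ∨ (4 ≤ k ∧ k < 10)) → n < 2048 → B.vel (Nat.xor n (tA k n)) ∈ B.trioL := by
    intro k n hk hn
    have hk10 : k < 10 := by omega
    have hgL : T.g k ∈ B.trioL := by
      rcases hk with rfl | ⟨h4, h10⟩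
      · exact h
      · have := hr (k - 4) (by omega)
        rwa [show 4 + (k - 4) = k by omega] at this
    rw [← B.vel_xor, ← T.conj_gσ hk10 hn]
    have := (B.trioL_comm hgL (vel_mem_C hn)).2
    rw [inv_eq_of_mul_eq_one_right (B.vel_sq n)] at this
    rw [show B.vel n * (T.κ (gσ k) * B.vel n * (T.κ (gσ k))⁻¹) = B.vel n * T.g k * B.vel n * (T.g k)⁻¹ by group]
    exact this
  rintro _ ⟨n, hn, rfl⟩
  refine (code_induction (P := fun n => n < 2048 ∧ B.vel n ∈ B.trioL) ⟨by norm_num, by rw [vel_zero]; exact one_mem _⟩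
    (fun a b ha hb => ⟨Nat.xor_lt_two_pow (n := 11) ha.1 hb.1, B.vel_xor a b ▸ mul_mem ha.2 hb.2⟩) (fun j hj => ?_) hn).2
  refine ⟨Nat.pow_lt_pow_right (by norm_num) hj, ?_⟩
  have h' := forallLt_elim span_ok hj
  simp only [Bool.and_eq_true, List.all_eq_true, Bool.or_eq_true, Nat.beq_eq, Nat.blt_eq, Nat.ble_eq] at h'
  obtain ⟨e, hl⟩ := h'
  rw [← e]
  clear e
  generalize trioSpan.getD j [] = l at hl
  induction l with
  | nil => rw [List.foldr_nil, vel_zero]; exact one_mem _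
  | cons a l ih =>
    rw [List.foldr_cons, ← B.vel_xor]
    exact mul_mem (hterm a.1 a.2 (hl a (List.mem_cons_self ..)).1 (hl a (List.mem_cons_self ..)).2)
      (ih fun x hx => hl x (List.mem_cons_of_mem _ hx))

include T in
/-- The centralizer acts on five cosets as the symmetric group. -/
theorem exists_rho (hG : ¬ IsMulCommutative G) (hJ : IsOfJankoFourType G) :
    B.trioT.index = 5 ∧ ∃ ρ : ↥B.trioC →* Equiv.Perm (Fin 5), Function.Surjective ρ ∧
      (∀ c, ρ c = 1 ↔ (c : G) ∈ B.trioL) := by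
  classical
  have hTc : Nat.card B.trioT = Nat.card ↥(B.trioC ⊓ B.NV : Subgroup G) := by
    show Nat.card (B.NV.subgroupOf B.trioC) = _
    rw [← Subgroup.inf_subgroupOf_left]
    exact Nat.card_congr (Subgroup.subgroupOfEquivOfLe inf_le_left).toEquiv
  have hmul := B.trioT.card_mul_index
  have hle := B.card_trioC_le hJ
  have hge := T.card_TC_ge
  have hk5 : B.trioT.index ≤ 5 := by
    by_contra hne
    have := Nat.mul_le_mul (hTc ▸ hge) (show 6 ≤ B.trioT.index by omega)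
    omega
  have hk2 : 2 ≤ B.trioT.index := by
    by_contra hne
    have h1 : B.trioT.index = 1 := by
      have := B.trioT.index_ne_zero_of_finite
      omega
    obtain ⟨c, hc, hcN⟩ := B.exists_trioC_out
    have hm : (⟨c, hc⟩ : ↥B.trioC) ∈ B.trioT := by rw [Subgroup.index_eq_one.1 h1]; trivial
    exact hcN (Subgroup.mem_subgroupOf.1 hm)
  set k := B.trioT.index with hk
  let e : (↥B.trioC ⧸ B.trioT) ≃ Fin k := Finite.equivFinOfCardEq rfl
  let ρ : ↥B.trioC →* Equiv.Perm (Fin k) :=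
    (e.permCongrHom).toMonoidHom.comp (MulAction.toPermHom ↥B.trioC (↥B.trioC ⧸ B.trioT))
  let x0 : Fin k := e (QuotientGroup.mk 1)
  have hρapp : ∀ (c : ↥B.trioC) (q : ↥B.trioC ⧸ B.trioT), ρ c (e q) = e (c • q) := fun c q => by
    show e (c • (e.symm (e q))) = _
    rw [e.symm_apply_apply]
  have hker : ∀ c, ρ c = 1 ↔ (c : G) ∈ B.trioL := fun c => by
    have h1 : ρ c = 1 ↔ MulAction.toPermHom ↥B.trioC (↥B.trioC ⧸ B.trioT) c = 1 :=
      e.permCongrHom.map_eq_one_iff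
    rw [h1, ← MonoidHom.mem_ker, ← Subgroup.normalCore_eq_ker]
    exact ⟨fun h => ⟨c, h, rfl⟩, fun ⟨d, hd, e⟩ => Subtype.ext (p := fun x => x ∈ B.trioC) e ▸ hd⟩
  have hfix : ∀ c : ↥B.trioC, (c : G) ∈ B.NV → ρ c x0 = x0 := fun c hc => by
    rw [hρapp]
    congr 1
    refine (QuotientGroup.eq (s := B.trioT)).2 ?_
    show ((c * 1)⁻¹ * 1 : ↥B.trioC) ∈ B.trioT
    rw [mul_one, mul_one]
    exact Subgroup.mem_subgroupOf.2 (by show (c : G)⁻¹ ∈ _; exact inv_mem hc)
  -- the three generators of the stabilizer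
  obtain ⟨v, hvV, hvL⟩ := SetLike.not_le_iff_exists.1 (B.not_V_le_trioL hG hJ)
  obtain ⟨hu3, hr2, hru⟩ := T.g_order
  have hug := T.g_mem_C (k := 0) (by norm_num) (by norm_num) (by norm_num)
  have hrg := T.g_mem_C (k := 1) (by norm_num) (by norm_num) (by norm_num)
  set u := ρ ⟨T.g 0, hug⟩ with hu
  set r := ρ ⟨T.g 1, hrg⟩ with hr
  set a := ρ ⟨v, B.V_le_trioC hvV⟩ with ha
  set b := ρ ⟨T.g 0 * v * (T.g 0)⁻¹, B.V_le_trioC (B.conj_mem (T.mem _) hvV)⟩ with hb
  have hu1 : u ≠ 1 := fun h => T.u_not_mem_L hG hJ ((hker _).1 h)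
  have ha1 : a ≠ 1 := fun h => hvL ((hker _).1 h)
  have hu' : u * u * u = 1 := by rw [hu, ← map_mul, ← map_mul, ← map_one ρ]; exact congrArg ρ (Subtype.ext hu3)
  have hr' : r * r = 1 := by rw [hr, ← map_mul, ← map_one ρ]; exact congrArg ρ (Subtype.ext hr2)
  have hru' : r * u * r⁻¹ = u * u := by
    rw [hu, hr, ← map_mul, ← map_inv, ← map_mul, ← map_mul]; exact congrArg ρ (Subtype.ext hru)
  have ha' : a * a = 1 := by
    rw [ha, ← map_mul, ← map_one ρ]
    exact congrArg ρ (Subtype.ext (by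
      show v * v = 1
      rw [← pow_two]; exact B.V_elementary.2 _ hvV))
  have hbe : b = u * a * u⁻¹ := by
    rw [hu, ha, show b = ρ (⟨T.g 0, hug⟩ * ⟨v, B.V_le_trioC hvV⟩ * ⟨T.g 0, hug⟩⁻¹) from rfl, map_mul, map_mul,
      map_inv]
  have hab : a * b = b * a := by
    rw [ha, hb, ← map_mul, ← map_mul]
    exact congrArg ρ (Subtype.ext (B.commute_V hvV (B.conj_mem (T.mem _) hvV)).eq)
  have hux := hfix ⟨T.g 0, hug⟩ (T.mem _)
  have hrx := hfix ⟨T.g 1, hrg⟩ (T.mem _)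
  have hax := hfix ⟨v, B.V_le_trioC hvV⟩ (Subgroup.le_normalizer hvV)
  rw [← hu] at hux
  rw [← hr] at hrx
  rw [← ha] at hax
  have htrans : ∀ y : Fin k, ∃ c, ρ c x0 = y := fun y => by
    obtain ⟨q, rfl⟩ := e.surjective y
    induction q using QuotientGroup.induction_on with
    | _ c => exact ⟨c, by rw [hρapp, MulAction.Quotient.smul_mk, smul_eq_mul, mul_one]⟩
  clear_value u r a b x0 ρ e
  clear hρapp hfix
  have hk5' : k = 5 := by
    by_contra hne
    rcases (show k = 2 ∨ k = 3 ∨ k = 4 by omega) with h | h | h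
    · clear_value k
      subst h
      have : ∀ u : Equiv.Perm (Fin 2), ∀ x, u x = x → u * u * u = 1 → u = 1 := by decide +kernel
      exact hu1 (this u x0 hux hu')
    · clear_value k
      subst h
      have : ∀ u : Equiv.Perm (Fin 3), ∀ x, u x = x → u * u * u = 1 → u = 1 := by decide +kernel
      exact hu1 (this u x0 hux hu')
    · clear_value k
      subst h
      exact perm_four a u x0 hax hux ha' ha1 hu' hu1 (hbe ▸ hab)
  clear_value k
  subst hk5'
  refine ⟨rfl, ρ, ?_, hker⟩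
  have hsign := perm_five_sign u r x0 hux hrx hu' hu1 hr' hru'
  have hab1 : b ≠ a := fun h => perm_five_conj a u x0 hax hux ha' ha1 hu' hu1 (hbe ▸ h)
  have hb' : b * b = 1 := by rw [hbe, conj_mul, ha', mul_one, mul_inv_cancel]
  have hmem : ∀ {c}, ρ c ∈ ρ.range := fun {c} => ⟨c, rfl⟩
  have h3 : 3 ∣ Nat.card ρ.range := by
    have := orderOf_dvd_natCard (⟨u, hu ▸ hmem⟩ : ρ.range)
    rwa [show orderOf (⟨u, hu ▸ hmem⟩ : ρ.range) = 3 by
      rw [← Subgroup.orderOf_coe]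
      haveI : Fact (Nat.Prime 3) := ⟨Nat.prime_three⟩
      exact orderOf_eq_prime (by rw [pow_three', hu']) hu1] at this
  have h4 : 4 ∣ Nat.card ρ.range := by
    let K4 : Subgroup (Equiv.Perm (Fin 5)) :=
      { carrier := {1, a, b, a * b}
        one_mem' := Or.inl rfl
        mul_mem' := by
          have x1 : b * (a * b) = a := by rw [← mul_assoc, ← hab, mul_assoc, hb', mul_one]
          have x2 : a * (a * b) = b := by rw [← mul_assoc, ha', one_mul]
          have x3 : a * b * a = b := by rw [hab, mul_assoc, ha', mul_one]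
          have x4 : a * b * b = a := by rw [mul_assoc, hb', mul_one]
          have x5 : a * b * (a * b) = 1 := by rw [← mul_assoc, x3, hb']
          rintro x y (rfl | rfl | rfl | rfl) (rfl | rfl | rfl | rfl) <;>
            simp [ha', hb', x1, x2, x3, x4, x5, ← hab]
        inv_mem' := by
          rintro x (rfl | rfl | rfl | rfl)
          · simp
          · simp [inv_eq_of_mul_eq_one_right ha']
          · simp [inv_eq_of_mul_eq_one_right hb']
          · simp [mul_inv_rev, inv_eq_of_mul_eq_one_right ha', inv_eq_of_mul_eq_one_right hb', ← hab] }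
    have hK : K4 ≤ ρ.range := by
      rintro x (rfl | rfl | rfl | rfl)
      exacts [one_mem _, ha ▸ hmem, hb ▸ hmem, mul_mem (ha ▸ hmem) (hb ▸ hmem)]
    have hb1 : b ≠ 1 := fun h => ha1 (conj_eq_one_iff.1 (hbe ▸ h))
    have hc : Nat.card K4 = 4 := by
      show Nat.card ({1, a, b, a * b} : Set (Equiv.Perm (Fin 5))) = 4
      rw [Nat.card_coe_set_eq, Set.ncard_insert_of_notMem, Set.ncard_insert_of_notMem, Set.ncard_pair]
      · intro h; exact ha1 (mul_eq_right.1 h.symm)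
      · rintro (h | h)
        · exact hab1 h.symm
        · exact hb1 (mul_eq_left.1 h.symm)
      · rintro (h | h | h)
        · exact ha1 h.symm
        · exact hb1 h.symm
        · exact hab1 ((mul_eq_one_iff_eq_inv.1 h.symm).trans (inv_eq_of_mul_eq_one_right hb')).symm
    exact hc ▸ Subgroup.card_dvd_of_le hK
  have h5 : 5 ∣ Nat.card ρ.range := by
    have ho := MulAction.index_stabilizer ρ.range x0
    have hu5 : MulAction.orbit ρ.range x0 = Set.univ := Set.eq_univ_of_forall fun y => by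
      obtain ⟨c, rfl⟩ := htrans y
      exact ⟨⟨ρ c, hmem⟩, rfl⟩
    rw [hu5, Set.ncard_univ, Nat.card_fin] at ho
    calc (5 : ℕ) = (MulAction.stabilizer ρ.range x0).index := ho.symm
      _ ∣ _ := Subgroup.index_dvd_card _
  rw [← MonoidHom.range_eq_top]
  have hP : Nat.card (Equiv.Perm (Fin 5)) = 120 := by rw [Nat.card_perm, Nat.card_fin]; rfl
  have hci := ρ.range.card_mul_index
  rw [hP] at hci
  have h60 : 60 ∣ Nat.card ρ.range :=
    Nat.Coprime.mul_dvd_of_dvd_of_dvd (by norm_num : Nat.Coprime 12 5)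
      (Nat.Coprime.mul_dvd_of_dvd_of_dvd (by norm_num : Nat.Coprime 4 3) h4 h3) h5
  obtain ⟨m, hm⟩ := h60
  rw [hm] at hci
  have hm2 : ρ.range.index = 1 ∨ ρ.range.index = 2 := by
    have hd : ρ.range.index ∣ 2 := ⟨m, by nlinarith⟩
    exact (Nat.dvd_prime Nat.prime_two).1 hd
  rcases hm2 with h | h
  · exact Subgroup.index_eq_one.1 h
  · exfalso
    have : r ∈ alternatingGroup (Fin 5) := Equiv.Perm.eq_alternatingGroup_of_index_eq_two h ▸ (hr ▸ hmem)
    rw [Equiv.Perm.mem_alternatingGroup, hsign] at this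
    exact absurd this (by decide)

include T in
theorem index_eq (hG : ¬ IsMulCommutative G) (hJ : IsOfJankoFourType G) : B.trioT.index = 5 :=
  (T.exists_rho hG hJ).1

include T in
theorem cards (hG : ¬ IsMulCommutative G) (hJ : IsOfJankoFourType G) :
    Nat.card ↥(B.trioC ⊓ B.NV : Subgroup G) = 2 ^ 18 * 3 ∧ Nat.card B.trioC = 2 ^ 18 * 15 ∧
      Nat.card B.trioL = 2 ^ 15 := by
  obtain ⟨h5, ρ, hρ, hker⟩ := T.exists_rho hG hJ
  have hTc : Nat.card B.trioT = Nat.card ↥(B.trioC ⊓ B.NV : Subgroup G) := by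
    show Nat.card (B.NV.subgroupOf B.trioC) = _
    rw [← Subgroup.inf_subgroupOf_left]
    exact Nat.card_congr (Subgroup.subgroupOfEquivOfLe inf_le_left).toEquiv
  have hmul := B.trioT.card_mul_index
  rw [h5, hTc] at hmul
  have hle := B.card_trioC_le hJ
  have hge := T.card_TC_ge
  have h1 : Nat.card ↥(B.trioC ⊓ B.NV : Subgroup G) = 2 ^ 18 * 3 := by omega
  refine ⟨h1, by omega, ?_⟩
  have hk := ρ.ker.card_mul_index
  rw [Subgroup.index_ker, MonoidHom.range_eq_top.2 hρ, Subgroup.card_top, Nat.card_perm, Nat.card_fin] at hk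
  have hL : Nat.card ρ.ker = Nat.card B.trioL := by
    refine Nat.card_congr
      { toFun := fun x => ⟨((x : ↥B.trioC) : G), (hker _).1 (MonoidHom.mem_ker.1 x.2)⟩
        invFun := fun x => ⟨⟨x, (B.trioL_le x.2).1⟩, MonoidHom.mem_ker.2 ((hker _).2 x.2)⟩
        left_inv := fun _ => rfl
        right_inv := fun _ => rfl }
  rw [hL, show (5 : ℕ).factorial = 120 from rfl] at hk
  omega

include T in
theorem eq_prod (hG : ¬ IsMulCommutative G) (hJ : IsOfJankoFourType G) {x : G} (hx : x ∈ B.trioC) (hN : x ∈ B.NV) :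
    ∃ n < 2048, ∃ i < 64, ∃ h < 6, x = B.vel n * T.κ (rσ i * hσ h) := by
  let f : Fin 2048 × Fin 64 × Fin 6 → ↥(B.trioC ⊓ B.NV : Subgroup G) := fun x =>
    ⟨B.vel x.1.1 * T.κ (rσ x.2.1.1 * hσ x.2.2.1), mul_mem (vel_mem_C x.1.2)
      (by rw [map_mul]; exact mul_mem (T.rσ_mem_C _) (T.hσ_mem_C _)),
      mul_mem (Subgroup.le_normalizer (B.vel_mem x.1.2)) (T.mem _)⟩
  have hf : Function.Injective f := by
    rintro ⟨n, y⟩ ⟨n', y'⟩ e
    obtain ⟨e1, e2⟩ := T.split_unique (B.vel_mem n.2) (B.vel_mem n'.2) (congrArg Subtype.val e)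
    exact Prod.ext (Fin.ext (B.vel_inj n.2 n'.2 e1)) (prod_injective e2)
  have hb := hf.bijective_of_nat_card_le (by
    rw [(T.cards hG hJ).1, Nat.card_prod, Nat.card_prod, Nat.card_fin, Nat.card_fin, Nat.card_fin]; norm_num)
  obtain ⟨⟨n, i, h⟩, e⟩ := hb.2 ⟨x, hx, hN⟩
  exact ⟨n, n.2, i, i.2, h, h.2, (congrArg Subtype.val e).symm⟩

end TrioLift

end CfsgLib.JankoFourTrio
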