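import Cfsg.Agent.Lib.JankoFourTrio.Checks
import Cfsg.Agent.Lib.JankoFourHexad.Cent
import Cfsg.Agent.Lib.JankoFourHexad.Split
import Cfsg.Agent.Lib.ThreeTrans.M24Inv

/-!
# The certified permutations lifted to the normalizer of `V` (owner: helper28)
-/

set_option autoImplicit false
set_option linter.unusedSectionVars false
set_option maxRecDepth 100000

namespace CfsgLib.JankoFourTrio

open Cfsg CfsgLib.Sporadic CfsgLib.JankoFourHexad

theorem exists_gσ (k : ℕ) : ∃ σ : ↥M24, k < 10 → Rep (σ : Equiv.Perm GolayPt) (gP k) := by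
  by_cases hk : k < 10
  · have h := forallLt_elim perms_mem hk
    rw [Bool.and_eq_true] at h
    obtain ⟨σ, hσ⟩ := exists_rep h.1
    exact ⟨⟨σ, mem_M24_of_rep hσ h.2⟩, fun _ => hσ⟩
  · exact ⟨1, fun h => absurd h hk⟩

/-- One of the certified permutations. -/
noncomputable def gσ (k : ℕ) : ↥M24 := (exists_gσ k).choose

theorem rep_gσ {k : ℕ} (hk : k < 10) : Rep (gσ k : Equiv.Perm GolayPt) (gP k) := (exists_gσ k).choose_spec hk

theorem rep_mul {σ τ : ↥M24} {p q : ℕ} (h : Rep (σ : Equiv.Perm GolayPt) p) (h' : Rep (τ : Equiv.Perm GolayPt) q) :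
    Rep ((σ * τ : ↥M24) : Equiv.Perm GolayPt) (pmul p q) := Rep.mul h h'

theorem rep_one : Rep ((1 : ↥M24) : Equiv.Perm GolayPt) pone := Rep.one

theorem eq_of_rep {σ τ : ↥M24} {p q : ℕ} (h : Rep (σ : Equiv.Perm GolayPt) p) (h' : Rep (τ : Equiv.Perm GolayPt) q)
    (e : Nat.beq p q = true) : σ = τ := by
  obtain rfl := Nat.eq_of_beq_eq_true e
  exact Subtype.ext (Rep.unique h h')

theorem peq_false {σ τ : ↥M24} {p q : ℕ} (h : Rep (σ : Equiv.Perm GolayPt) p)
    (h' : Rep (τ : Equiv.Perm GolayPt) q) (e : CfsgLib.ThreeTrans.M24Inv.peq p q = false) : σ ≠ τ := fun c => by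
  rw [(CfsgLib.ThreeTrans.M24Inv.peq_iff h h').2 (congrArg Subtype.val c)] at e
  exact Bool.noConfusion e

theorem rep_pow {σ : ↥M24} {p : ℕ} (h : Rep (σ : Equiv.Perm GolayPt) p) :
    ∀ n : ℕ, Rep ((σ ^ n : ↥M24) : Equiv.Perm GolayPt) (Nat.rec pone (fun _ q => pmul p q) n)
  | 0 => by simpa using rep_one
  | n + 1 => by rw [pow_succ']; exact rep_mul h (rep_pow h n)

/-- The products of the six involutions. -/
noncomputable def rσ (i : ℕ) : ↥M24 :=
  Nat.rec 1 (fun j q => if Nat.testBit i j then gσ (4 + j) * q else q) 6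

/-- The symmetric group of degree three. -/
noncomputable def hσ (h : ℕ) : ↥M24 := gσ 0 ^ (h % 3) * gσ 1 ^ (h / 3)

theorem rep_rσ (i : ℕ) : Rep (rσ i : Equiv.Perm GolayPt) (rP i) := by
  have key : ∀ n ≤ 6, Rep ((Nat.rec 1 (fun j q => if Nat.testBit i j then gσ (4 + j) * q else q) n : ↥M24) :
      Equiv.Perm GolayPt) (Nat.rec pone (fun j q => if Nat.testBit i j then pmul (gP (4 + j)) q else q) n) := by
    intro n
    induction n with
    | zero => exact fun _ => rep_one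
    | succ n ih =>
      intro hn
      have ih := ih (by omega)
      dsimp only
      split
      · exact rep_mul (rep_gσ (by omega)) ih
      · exact ih
  exact key 6 le_rfl

theorem rep_hσ (h : ℕ) : Rep (hσ h : Equiv.Perm GolayPt) (hP h) :=
  rep_mul (rep_pow (rep_gσ (by norm_num)) _) (rep_pow (rep_gσ (by norm_num)) _)

theorem gσ_pow_facts : gσ 0 ^ 3 = 1 ∧ gσ 1 * gσ 1 = 1 ∧ gσ 1 * gσ 0 * gσ 1 = gσ 0 * gσ 0 ∧
    Commute (gσ 0) (gσ 2) ∧ Commute (gσ 1) (gσ 2) ∧ Commute (gσ 0) (gσ 3) ∧ Commute (gσ 1) (gσ 3) ∧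
    gσ 3 * gσ 3 = 1 ∧ gσ 2 ^ 7 = 1 ∧ gσ 0 ≠ 1 := by
  have h := rel_ok
  simp only [Bool.and_eq_true, Bool.not_eq_true'] at h
  obtain ⟨⟨⟨⟨⟨⟨⟨⟨⟨e1, e2⟩, e3⟩, e4⟩, e5⟩, e6⟩, e7⟩, e8⟩, e9⟩, e10⟩ := h
  have g : ∀ {k : ℕ}, k < 10 → Rep (gσ k : Equiv.Perm GolayPt) (gP k) := rep_gσ
  refine ⟨?_, eq_of_rep (rep_mul (g (by norm_num)) (g (by norm_num))) rep_one e2, ?_,
    eq_of_rep (rep_mul (g (by norm_num)) (g (by norm_num))) (rep_mul (g (by norm_num)) (g (by norm_num))) e4,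
    eq_of_rep (rep_mul (g (by norm_num)) (g (by norm_num))) (rep_mul (g (by norm_num)) (g (by norm_num))) e5,
    eq_of_rep (rep_mul (g (by norm_num)) (g (by norm_num))) (rep_mul (g (by norm_num)) (g (by norm_num))) e6,
    eq_of_rep (rep_mul (g (by norm_num)) (g (by norm_num))) (rep_mul (g (by norm_num)) (g (by norm_num))) e7,
    eq_of_rep (rep_mul (g (by norm_num)) (g (by norm_num))) rep_one e8,
    eq_of_rep (rep_pow (g (by norm_num)) 7) rep_one e9, fun e => ?_⟩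
  · rw [pow_three]
    exact eq_of_rep (rep_mul (g (by norm_num)) (rep_mul (g (by norm_num)) (g (by norm_num)))) rep_one e1
  · rw [mul_assoc]
    exact eq_of_rep (rep_mul (g (by norm_num)) (rep_mul (g (by norm_num)) (g (by norm_num))))
      (rep_mul (g (by norm_num)) (g (by norm_num))) e3
  · exact peq_false (g (by norm_num)) rep_one e10 e

theorem gσ_elem {i j : ℕ} (hi : i < 6) (hj : j < 6) :
    Commute (gσ (4 + i)) (gσ (4 + j)) ∧ gσ (4 + i) * gσ (4 + i) = 1 := by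
  have h := forallLt_elim (forallLt_elim elem_ok hi) hj
  rw [Bool.and_eq_true] at h
  exact ⟨eq_of_rep (rep_mul (rep_gσ (by omega)) (rep_gσ (by omega))) (rep_mul (rep_gσ (by omega)) (rep_gσ (by omega))) h.1,
    eq_of_rep (rep_mul (rep_gσ (by omega)) (rep_gσ (by omega))) rep_one h.2⟩

theorem rσ_induction {P : ↥M24 → Prop} (h1 : P 1) (hmul : ∀ j < 6, ∀ q, P q → P (gσ (4 + j) * q)) (i : ℕ) :
    P (rσ i) := by
  have key : ∀ n ≤ 6, P (Nat.rec 1 (fun j q => if Nat.testBit i j then gσ (4 + j) * q else q) n : ↥M24) := by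
    intro n
    induction n with
    | zero => exact fun _ => h1
    | succ n ih =>
      intro hn
      have ih := ih (by omega)
      dsimp only
      split
      · exact hmul n (by omega) _ ih
      · exact ih
  exact key 6 le_rfl

theorem rσ_comm (i : ℕ) {j : ℕ} (hj : j < 6) : Commute (rσ i) (gσ (4 + j)) :=
  rσ_induction (P := fun q => Commute q (gσ (4 + j))) (Commute.one_left _)
    (fun _ hk _ hq => (gσ_elem hk hj).1.mul_left hq) i

theorem rσ_comm' (i k : ℕ) : Commute (rσ i) (rσ k) :=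
  rσ_induction (P := fun q => Commute (rσ i) q) (Commute.one_right _)
    (fun _ hj _ hq => (rσ_comm i hj).mul_right hq) k

theorem rσ_sq (i : ℕ) : rσ i * rσ i = 1 := by
  refine (rσ_induction (P := fun q => q * q = 1 ∧ ∀ j < 6, Commute q (gσ (4 + j)))
    ⟨one_mul 1, fun _ _ => Commute.one_left _⟩ (fun k hk q hq => ⟨?_, fun j hj => ?_⟩) i).1
  · calc gσ (4 + k) * q * (gσ (4 + k) * q) = gσ (4 + k) * (q * gσ (4 + k)) * q := by group
      _ = gσ (4 + k) * (gσ (4 + k) * q) * q := by rw [(hq.2 k hk).eq]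
      _ = (gσ (4 + k) * gσ (4 + k)) * (q * q) := by group
      _ = 1 := by rw [(gσ_elem hk hk).2, hq.1, one_mul]
  · exact (gσ_elem hk hj).1.mul_left (hq.2 j hj)

/-- The six involutions are commutators with `s` and with `u`. -/
theorem gσ_comm {j : ℕ} (hj : j < 6) : ∃ y < 64, ∃ z < 64,
    gσ (4 + j) = (rσ y)⁻¹ * gσ 2 * rσ y * (gσ 2)⁻¹ ∧ gσ (4 + j) = gσ 0 * rσ z * (gσ 0)⁻¹ * (rσ z)⁻¹ := by
  have h := forallLt_elim comm_ok hj
  simp only [Bool.and_eq_true, Nat.blt_eq] at h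
  obtain ⟨⟨⟨e1, e2⟩, hy⟩, hz⟩ := h
  refine ⟨_, hy, _, hz, ?_, ?_⟩
  · have := eq_of_rep (rep_mul (rep_gσ (k := 2) (by norm_num)) (rep_rσ _))
      (rep_mul (rep_rσ _) (rep_mul (rep_gσ (k := 4 + j) (by omega)) (rep_gσ (by norm_num)))) e1
    rw [mul_assoc _ (gσ 2), this]
    group
  · have := eq_of_rep (rep_mul (rep_gσ (k := 0) (by norm_num)) (rep_rσ _))
      (rep_mul (rep_gσ (k := 4 + j) (by omega)) (rep_mul (rep_rσ _) (rep_gσ (by norm_num)))) e2
    rw [this]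
    group

/-- The conjugate of `s` by `g`. -/
noncomputable def sσ : ↥M24 := gσ 3 * (gσ 2 * gσ 3)

theorem gσ_word : gσ 3 = gσ 2 * (gσ 2 * (sσ * (sσ * (gσ 2 * gσ 2)))) := by
  have g2 := rep_gσ (k := 2) (by norm_num)
  have g3 := rep_gσ (k := 3) (by norm_num)
  exact eq_of_rep g3 (rep_mul g2 (rep_mul g2 (rep_mul (rep_mul g3 (rep_mul g2 g3))
    (rep_mul (rep_mul g3 (rep_mul g2 g3)) (rep_mul g2 g2))))) word_ok

theorem prod_injective : Function.Injective fun x : Fin 64 × Fin 6 => rσ x.1.1 * hσ x.2.1 := by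
  rintro ⟨i, h⟩ ⟨j, k⟩ e
  dsimp only at e
  -- the quotient of the two elements of the symmetric group is one of its elements
  obtain ⟨a, ha⟩ : ∃ a : Fin 6, hσ h.1 * (hσ k.1)⁻¹ = hσ a.1 := by
    have key : ∀ h k : Fin 6, ∃ a : Fin 6, Nat.beq (pmul (hP a.1) (hP k.1)) (hP h.1) = true := by decide +kernel
    obtain ⟨a, ha⟩ := key h k
    exact ⟨a, mul_inv_eq_of_eq_mul (eq_of_rep (rep_mul (rep_hσ _) (rep_hσ _)) (rep_hσ _) ha).symm⟩
  have e' : rσ i.1 * hσ a.1 = rσ j.1 := by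
    rw [← ha, ← mul_assoc, e, mul_inv_cancel_right]
  have hc := forallLt_elim (forallLt_elim (forallLt_elim prod_inj i.2) j.2) a.2
  simp only [Bool.or_eq_true, Bool.and_eq_true, Bool.not_eq_true'] at hc
  rcases hc with ⟨hij, ha0⟩ | hne
  · obtain rfl : i = j := Fin.ext (Nat.eq_of_beq_eq_true hij)
    rw [Nat.eq_of_beq_eq_true ha0, show hσ 0 = 1 by simp [hσ], mul_inv_eq_one] at ha
    have hh := forallLt_elim (forallLt_elim hP_inj h.2) k.2
    simp only [Bool.or_eq_true, Bool.not_eq_true'] at hh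
    rcases hh with hh | hh
    · rw [Fin.ext (Nat.eq_of_beq_eq_true hh)]
    · exfalso
      have hk' : Rep (hσ h.1 : Equiv.Perm GolayPt) (hP k.1) := ha ▸ rep_hσ _
      exact peq_false (rep_hσ _) hk' hh rfl
  · exfalso
    have hj : Rep ((rσ i.1 * hσ a.1 : ↥M24) : Equiv.Perm GolayPt) (rP j.1) := e' ▸ rep_rσ _
    exact peq_false (rep_mul (rep_rσ _) (rep_hσ _)) hj hne rfl

end CfsgLib.JankoFourTrio
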