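import Cfsg.Agent.Lib.JankoFourTrio.Special

/-!
# The normalizer acts on the elementary group of order eight as `SL(3,2)` (owner: helper28)
-/

set_option autoImplicit false
set_option linter.unusedSectionVars false
set_option maxRecDepth 100000

namespace CfsgLib.JankoFour

open Cfsg CfsgLib.ThreeTrans
open CfsgLib.JankoFourHexad CfsgLib.JankoFourTrio
open CfsgLib.Sporadic (forallLt_elim)

variable {G : Type*} [Group G] [Finite G]

namespace HexBase

variable {S : Setting G} (B : HexBase S)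

/-- The element with given coordinates. -/
def wEl (v : Fin 3 → ZMod 2) : G := B.vel (wCode (wIdx v))

theorem wEl_mem (v : Fin 3 → ZMod 2) : B.wEl v ∈ B.trioW := ⟨⟨_, (wIdx_facts v v).1⟩, rfl⟩

theorem wEl_add (v w : Fin 3 → ZMod 2) : B.wEl (v + w) = B.wEl v * B.wEl w := by
  rw [wEl, wEl, wEl, B.vel_xor, (wIdx_facts v w).2.1]

theorem wEl_inj {v w : Fin 3 → ZMod 2} (h : B.wEl v = B.wEl w) : v = w := by
  obtain ⟨h1, -, h3⟩ := wIdx_facts v w
  have h2 := (wIdx_facts w w).1
  exact h3 (congrArg Fin.val (wCode_inj ⟨_, h1⟩ ⟨_, h2⟩ (B.vel_inj (wCode_lt ⟨_, h1⟩) (wCode_lt ⟨_, h2⟩) h)))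

theorem wEl_surj {x : G} (hx : x ∈ B.trioW) : ∃ v, B.wEl v = x := by
  obtain ⟨i, rfl⟩ := hx
  obtain ⟨v, hv⟩ := wIdx_surj i
  exact ⟨v, by rw [wEl, hv]⟩

/-- The normalizer of the elementary group of order eight. -/
abbrev trioM : Subgroup G := Subgroup.normalizer (B.trioW : Set G)

theorem trioC_le_M : B.trioC ≤ B.trioM := fun x hx => Subgroup.mem_normalizer_iff.2 fun y => by
  constructor
  · intro hy
    rwa [← Subgroup.mem_centralizer_iff.1 hx y hy, mul_inv_cancel_right]
  · intro hy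
    have h := Subgroup.mem_centralizer_iff.1 hx _ hy
    have e : x * y * x⁻¹ = y := by
      calc x * y * x⁻¹ = x⁻¹ * ((x * y * x⁻¹) * x) := ?_
        _ = y := ?_
      · rw [h]; group
      · group
    rwa [e] at hy

theorem conj_trioC {g x : G} (hg : g ∈ B.trioM) : g * x * g⁻¹ ∈ B.trioC ↔ x ∈ B.trioC := by
  have h : ∀ {g : G}, g ∈ B.trioM → ∀ {x : G}, x ∈ B.trioC → g * x * g⁻¹ ∈ B.trioC := fun {g} hg {x} hx => by
    refine Subgroup.mem_centralizer_iff.2 fun y hy => ?_
    have h1 := Subgroup.mem_centralizer_iff.1 hx (g⁻¹ * y * g)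
      ((Subgroup.mem_normalizer_iff.1 hg _).2 (by
        show g * (g⁻¹ * y * g) * g⁻¹ ∈ B.trioW
        rwa [show g * (g⁻¹ * y * g) * g⁻¹ = y by group]))
    calc y * (g * x * g⁻¹) = g * (g⁻¹ * y * g * x) * g⁻¹ := by group
      _ = g * (x * (g⁻¹ * y * g)) * g⁻¹ := by rw [h1]
      _ = _ := by group
  refine ⟨fun hx => ?_, h hg⟩
  have := h (inv_mem hg) hx
  rwa [inv_inv, show g⁻¹ * (g * x * g⁻¹) * g = x by group] at this

/-- The coordinates of a conjugate. -/
noncomputable def conjCoord (g : ↥B.trioM) (v : Fin 3 → ZMod 2) : Fin 3 → ZMod 2 :=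
  (B.wEl_surj ((Subgroup.mem_normalizer_iff.1 g.2 _).1 (B.wEl_mem v))).choose

theorem conjCoord_spec (g : ↥B.trioM) (v : Fin 3 → ZMod 2) :
    B.wEl (B.conjCoord g v) = (g : G) * B.wEl v * (g : G)⁻¹ :=
  (B.wEl_surj ((Subgroup.mem_normalizer_iff.1 g.2 _).1 (B.wEl_mem v))).choose_spec

/-- The linear map of a normalizing element. -/
noncomputable def wLin (g : ↥B.trioM) : (Fin 3 → ZMod 2) →ₗ[ZMod 2] (Fin 3 → ZMod 2) :=
  (AddMonoidHom.mk' (B.conjCoord g) fun v w => B.wEl_inj (by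
    rw [B.wEl_add, B.conjCoord_spec, B.conjCoord_spec, B.conjCoord_spec, B.wEl_add, conj_mul])).toZModLinearMap 2

theorem wLin_spec (g : ↥B.trioM) (v : Fin 3 → ZMod 2) : B.wEl (B.wLin g v) = (g : G) * B.wEl v * (g : G)⁻¹ :=
  B.conjCoord_spec g v

theorem wLin_mul (g h : ↥B.trioM) : B.wLin (g * h) = B.wLin g ∘ₗ B.wLin h :=
  LinearMap.ext fun v => B.wEl_inj (by
    rw [LinearMap.comp_apply, wLin_spec, wLin_spec, wLin_spec]
    show (g : G) * h * B.wEl v * ((g : G) * h)⁻¹ = _
    group)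

theorem wLin_one : B.wLin 1 = LinearMap.id :=
  LinearMap.ext fun v => B.wEl_inj (by rw [wLin_spec, LinearMap.id_apply]; simp)

theorem det_wLin (g : ↥B.trioM) : (LinearMap.toMatrix' (B.wLin g)).det = 1 := by
  have h : LinearMap.toMatrix' (B.wLin g) * LinearMap.toMatrix' (B.wLin g⁻¹) = 1 := by
    rw [← LinearMap.toMatrix'_comp, ← B.wLin_mul, mul_inv_cancel, wLin_one, LinearMap.toMatrix'_id]
  have h1 := congrArg Matrix.det h
  rw [Matrix.det_mul, Matrix.det_one] at h1
  revert h1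
  generalize (LinearMap.toMatrix' (B.wLin g)).det = a
  generalize (LinearMap.toMatrix' (B.wLin g⁻¹)).det = b
  revert a b
  decide

/-- The action on the elementary group of order eight. -/
noncomputable def wSL : ↥B.trioM →* Matrix.SpecialLinearGroup (Fin 3) (ZMod 2) :=
  MonoidHom.mk' (fun g => ⟨LinearMap.toMatrix' (B.wLin g), B.det_wLin g⟩) fun g h => Subtype.ext (by
    show LinearMap.toMatrix' (B.wLin (g * h)) = LinearMap.toMatrix' (B.wLin g) * LinearMap.toMatrix' (B.wLin h)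
    rw [B.wLin_mul, LinearMap.toMatrix'_comp])

theorem wSL_mulVec (g : ↥B.trioM) (v : Fin 3 → ZMod 2) :
    B.wEl ((B.wSL g : Matrix (Fin 3) (Fin 3) (ZMod 2)).mulVec v) = (g : G) * B.wEl v * (g : G)⁻¹ := by
  show B.wEl ((LinearMap.toMatrix' (B.wLin g)).mulVec v) = _
  rw [LinearMap.toMatrix'_mulVec, wLin_spec]

theorem wSL_eq_one (g : ↥B.trioM) : B.wSL g = 1 ↔ (g : G) ∈ B.trioC := by
  constructor
  · intro h
    refine Subgroup.mem_centralizer_iff.2 fun x hx => ?_
    obtain ⟨v, rfl⟩ := B.wEl_surj hx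
    have e := B.wSL_mulVec g v
    rw [h, Matrix.SpecialLinearGroup.coe_one, Matrix.one_mulVec] at e
    conv_lhs => rw [e]
    group
  · intro h
    refine Subtype.ext (Matrix.ext_of_mulVec_single fun j => B.wEl_inj ?_)
    rw [B.wSL_mulVec, Matrix.SpecialLinearGroup.coe_one, Matrix.one_mulVec,
      ← Subgroup.mem_centralizer_iff.1 h _ (B.wEl_mem _), mul_inv_cancel_right]

/-- A triple of indices reached by a normalizing element. -/
def TriReach (H : Subgroup ↥M24) (κ : ↥M24 →* G) (n : ℕ) : Prop :=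
  ∃ σ ∈ H, ∀ j : Fin 3, κ σ * B.vel (wCode (2 ^ j.1)) * (κ σ)⁻¹ = B.vel (wCode (n / 8 ^ j.1 % 8))

end HexBase

end CfsgLib.JankoFour

namespace CfsgLib.JankoFourTrio

open Cfsg CfsgLib.ThreeTrans
open CfsgLib.JankoFour CfsgLib.JankoFour.HexBase
open CfsgLib.JankoFourHexad
open CfsgLib.Sporadic (forallLt_elim)

variable {G : Type*} [Group G] [Finite G] {S : Setting G} {B : HexBase S}

theorem mask_induction {P : ℕ → Prop} (hP : ∀ n < 512, P n → P (triAct 0 n) ∧ P (triAct 1 n))
    (h0 : P (1 + 8 * 2 + 64 * 4)) : ∀ n, triMask.testBit n = true → P n := by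
  have hstep : ∀ m, (∀ n, m.testBit n = true → P n) → ∀ n, (triStep m).testBit n = true → P n := by
    intro m hm n hn
    have key : ∀ k ≤ 512, ∀ n, Nat.testBit (Nat.rec m (fun n a => if Nat.testBit m n then
        Nat.lor a (Nat.lor (Nat.shiftLeft 1 (triAct 0 n)) (Nat.shiftLeft 1 (triAct 1 n))) else a) k : ℕ) n = true →
          P n := by
      intro k
      induction k with
      | zero => exact fun _ => hm
      | succ k ih =>
        intro hk n hn
        dsimp only at hn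
        split at hn
        · next h1 =>
          change Nat.testBit (_ ||| (1 <<< triAct 0 k ||| 1 <<< triAct 1 k)) n = true at hn
          rw [Nat.testBit_or, Nat.testBit_or, Nat.one_shiftLeft, Nat.one_shiftLeft, Nat.testBit_two_pow,
            Nat.testBit_two_pow] at hn
          simp only [Bool.or_eq_true, decide_eq_true_iff] at hn
          obtain ⟨p0, p1⟩ := hP k (by omega) (hm k h1)
          rcases hn with hn | rfl | rfl
          exacts [ih (by omega) n hn, p0, p1]
        · exact ih (by omega) n hn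
    exact key 512 le_rfl n hn
  have h : ∀ j, ∀ n, Nat.testBit (Nat.rec (2 ^ (1 + 8 * 2 + 64 * 4)) (fun _ a => triStep a) j : ℕ) n = true → P n := by
    intro j
    induction j with
    | zero =>
      intro n hn
      change Nat.testBit (2 ^ (1 + 8 * 2 + 64 * 4)) n = true at hn
      rw [Nat.testBit_two_pow, decide_eq_true_iff] at hn
      exact hn ▸ h0
    | succ j ih => exact fun n hn => hstep _ ih n hn
  exact h 12

namespace TrioLift

variable (T : TrioLift B)

theorem tri_reach {H : Subgroup ↥M24} (h2 : gσ 2 ∈ H) (h3 : gσ 3 ∈ H) {n : ℕ} (hn : triMask.testBit n = true) :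
    B.TriReach H T.κ n := by
  refine mask_induction (P := fun n => B.TriReach H T.κ n) (fun n hn512 hP => ?_) ⟨1, one_mem _, fun j => ?_⟩ n hn
  · have step : ∀ k : Fin 2, B.TriReach H T.κ (triAct k.1 n) := by
      intro k
      obtain ⟨σ, hσ, h⟩ := hP
      have hgH : gσ (2 + k.1) ∈ H := by fin_cases k <;> assumption
      refine ⟨gσ (2 + k.1) * σ, mul_mem hgH hσ, fun j => ?_⟩
      rw [map_mul, show T.κ (gσ (2 + k.1)) * T.κ σ * B.vel (wCode (2 ^ j.1)) * (T.κ (gσ (2 + k.1)) * T.κ σ)⁻¹ =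
        T.κ (gσ (2 + k.1)) * (T.κ σ * B.vel (wCode (2 ^ j.1)) * (T.κ σ)⁻¹) * (T.κ (gσ (2 + k.1)))⁻¹ by group, h j]
      obtain ⟨-, e⟩ := tab_codes k ⟨n / 8 ^ j.1 % 8, Nat.mod_lt _ (by norm_num)⟩
      rw [T.conj_gσ (by omega) (wCode_lt ⟨_, Nat.mod_lt _ (by norm_num)⟩), e]
      have l : ∀ a : Fin 8, wTab k.1 a.1 < 8 := fun a => (tab_codes k a).1
      have l0 := l ⟨n % 8, Nat.mod_lt _ (by norm_num)⟩
      have l1 := l ⟨n / 8 % 8, Nat.mod_lt _ (by norm_num)⟩
      have l2 := l ⟨n / 64, by omega⟩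
      dsimp only at l0 l1 l2
      congr 2
      fin_cases j <;> simp only [triAct, Nat.reducePow, Nat.div_one]
      · omega
      · omega
      · rw [show n / 64 % 8 = n / 64 by omega]; omega
    exact ⟨step 0, step 1⟩
  · rw [map_one, one_mul, inv_one, mul_one]
    fin_cases j <;> rfl

/-- Every matrix is induced by an element of a subgroup containing both generators. -/
theorem exists_lift_SL {H : Subgroup ↥M24} (h2 : gσ 2 ∈ H) (h3 : gσ 3 ∈ H)
    (A : Matrix.SpecialLinearGroup (Fin 3) (ZMod 2)) (hH : ∀ σ ∈ H, T.κ σ ∈ B.trioM) :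
    ∃ σ, ∃ h : σ ∈ H, B.wSL ⟨T.κ σ, hH σ h⟩ = A := by
  set M := (A : Matrix (Fin 3) (Fin 3) (ZMod 2)) with hM
  rcases tri_all (fun i => M i 0) (fun i => M i 1) (fun i => M i 2) with h | h
  · obtain ⟨σ, hσ, e⟩ := T.tri_reach h2 h3 h
    refine ⟨σ, hσ, Subtype.ext (Matrix.ext_of_mulVec_single fun j => B.wEl_inj ?_)⟩
    rw [B.wSL_mulVec, wEl, wEl, wIdx_single, e j, ← hM, Matrix.mulVec_single_one]
    congr 2
    have la := (wIdx_facts (fun i => M i 0) 0).1
    have lb := (wIdx_facts (fun i => M i 1) 0).1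
    have lc := (wIdx_facts (fun i => M i 2) 0).1
    fin_cases j <;> simp only [Nat.reducePow, Nat.div_one]
    · show _ = wIdx (fun i => M i 0); omega
    · show _ = wIdx (fun i => M i 1); omega
    · show _ = wIdx (fun i => M i 2); omega
  · exfalso
    have hd : M.det = 1 := A.2
    rw [Matrix.det_fin_three] at hd
    refine zero_ne_one (α := ZMod 2) ?_
    rw [← hd, ← h]

end TrioLift

end CfsgLib.JankoFourTrio
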