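import Cfsg.Agent.Lib.JankoFourTrio.NoComplement
import Cfsg.Agent.Lib.JankoFourHexad.General
import Cfsg.Agent.Lib.Recog.JankoTwoType.SmallFacts

/-!
# The subgroup `2 ^ (3 + 12) . (S5 × SL(3,2))` (owner: helper28)
-/

set_option autoImplicit false
set_option linter.unusedSectionVars false
set_option maxRecDepth 100000

namespace CfsgLib.JankoFourTrio

open Cfsg CfsgLib.ThreeTrans
open CfsgLib.JankoFour CfsgLib.JankoFour.HexBase

local notation "SL32" => Matrix.SpecialLinearGroup (Fin 3) (ZMod 2)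
local notation "S5" => Equiv.Perm (Fin 5)

/-- Lifting the normalizer of a subgroup of prime order through a map with kernel of coprime order. -/
theorem frattini_count {M A : Type*} [Group M] [Finite M] [Group A] [Finite A] (f : M →* A) (hf : Function.Surjective f)
    {P W : Subgroup M} {p : ℕ} [hp : Fact p.Prime] (hP : Nat.card P = p) (hk : ¬ p ∣ Nat.card f.ker)
    (hW : W ≤ f.ker) (hWP : W ≤ Subgroup.normalizer (P : Set M)) :
    Nat.card W * Nat.card ↥(Subgroup.normalizer ((P.map f : Subgroup A) : Set A)) ≤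
      Nat.card ↥(Subgroup.normalizer (P : Set M)) := by
  classical
  set N := Subgroup.normalizer (P : Set M) with hN
  set Q := (P.map f).comap f with hQ
  have hPQ : P ≤ Q := fun x hx => ⟨x, hx, rfl⟩
  have hinj : ∀ x ∈ P, f x = 1 → x = 1 := by
    intro x hx h
    have hbot : P ⊓ f.ker = ⊥ := Subgroup.inf_eq_bot_of_coprime (by
      rw [hP]; exact (hp.out.coprime_iff_not_dvd).2 hk)
    exact Subgroup.mem_bot.1 (hbot ▸ (⟨hx, h⟩ : x ∈ P ⊓ f.ker))
  have hPmap : Nat.card (P.map f) = p := by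
    have h := Nat.card_congr (Equiv.ofBijective (fun x : ↥P => (⟨f x, x, x.2, rfl⟩ : ↥(P.map f)))
      ⟨fun a b e => ?_, fun ⟨_, x, hx, e⟩ => ⟨⟨x, hx⟩, Subtype.ext e⟩⟩)
    · rw [← h, hP]
    · have e' : f a = f b := congrArg Subtype.val e
      exact Subtype.ext (mul_inv_eq_one.1 (hinj _ (mul_mem a.2 (inv_mem b.2)) (by rw [map_mul, map_inv, e', mul_inv_cancel])))
  -- the image of the normalizer
  have himg : ∀ a ∈ Subgroup.normalizer ((P.map f : Subgroup A) : Set A), ∃ g ∈ N, f g = a := by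
    intro a ha
    obtain ⟨g, rfl⟩ := hf a
    have hP' : P.map (MulAut.conj g).toMonoidHom ≤ Q := by
      rintro _ ⟨x, hx, rfl⟩
      show f (g * x * g⁻¹) ∈ P.map f
      rw [map_mul, map_mul, map_inv]
      exact (Subgroup.mem_normalizer_iff.1 ha _).1 ⟨x, hx, rfl⟩
    have hQc : ¬ p ∣ (P.subgroupOf Q).index := by
      intro hdvd
      have h1 := (P.subgroupOf Q).card_mul_index
      rw [Nat.card_congr (Subgroup.subgroupOfEquivOfLe hPQ).toEquiv, hP] at h1
      have h2 : Nat.card Q = Nat.card (P.map f) * Nat.card f.ker := by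
        let φ := f.subgroupComap (P.map f)
        have h3 := φ.ker.card_mul_index
        have hr : φ.range = ⊤ := MonoidHom.range_eq_top.2 (MonoidHom.subgroupComap_surjective_of_surjective f _ hf)
        rw [Subgroup.index_ker, hr, Subgroup.card_top] at h3
        rw [← h3, mul_comm]
        congr 1
        refine Nat.card_congr
          { toFun := fun x => ⟨((x : ↥Q) : M), congrArg Subtype.val (MonoidHom.mem_ker.1 x.2)⟩
            invFun := fun x => ⟨⟨x, show f x ∈ P.map f by rw [MonoidHom.mem_ker.1 x.2]; exact one_mem _⟩,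
              MonoidHom.mem_ker.2 (Subtype.ext (MonoidHom.mem_ker.1 x.2))⟩
            left_inv := fun _ => rfl
            right_inv := fun _ => rfl }
      rw [h2, hPmap] at h1
      rw [Nat.eq_of_mul_eq_mul_left hp.out.pos h1] at hdvd
      exact hk hdvd
    have hSyl : ∀ R : Subgroup M, R ≤ Q → Nat.card R = p → ∃ T : Sylow p ↥Q, (T : Subgroup ↥Q) = R.subgroupOf Q := by
      intro R hRQ hR
      have hpg : IsPGroup p ↥(R.subgroupOf Q) := IsPGroup.of_card (n := 1) (by
        rw [Nat.card_congr (Subgroup.subgroupOfEquivOfLe hRQ).toEquiv, hR, pow_one])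
      refine ⟨hpg.toSylow ?_, rfl⟩
      intro h
      have h1 := (R.subgroupOf Q).card_mul_index
      have h2 := (P.subgroupOf Q).card_mul_index
      rw [Nat.card_congr (Subgroup.subgroupOfEquivOfLe hRQ).toEquiv, hR] at h1
      rw [Nat.card_congr (Subgroup.subgroupOfEquivOfLe hPQ).toEquiv, hP] at h2
      rw [Nat.eq_of_mul_eq_mul_left hp.out.pos (h1.trans h2.symm)] at h
      exact hQc h
    obtain ⟨T1, hT1⟩ := hSyl P hPQ hP
    obtain ⟨T2, hT2⟩ := hSyl _ hP' (by rw [Subgroup.card_map_of_injective (MulAut.conj g).injective, hP])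
    obtain ⟨q, hq⟩ := MulAction.exists_smul_eq ↥Q T2 T1
    -- `q g` normalizes `P`
    have hqg : (q : M) * g ∈ N := by
      refine norm_of_map (Subgroup.eq_of_le_of_card_ge ?_
        (by rw [Subgroup.card_map_of_injective (MulAut.conj _).injective]))
      rintro _ ⟨x, hx, rfl⟩
      have hm : (⟨g * x * g⁻¹, hP' ⟨x, hx, rfl⟩⟩ : ↥Q) ∈ (T2 : Subgroup ↥Q) := by
        rw [hT2]; exact ⟨x, hx, rfl⟩
      have h := Subgroup.smul_mem_pointwise_smul _ (MulAut.conj q) _ hm
      rw [← Sylow.pointwise_smul_def] at h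
      rw [show MulAut.conj q • T2 = T1 from hq, hT1] at h
      change (q : M) * g * x * ((q : M) * g)⁻¹ ∈ P
      rw [show (q : M) * g * x * ((q : M) * g)⁻¹ = q * (g * x * g⁻¹) * (q : M)⁻¹ by group]
      exact h
    obtain ⟨x, hx, hfx⟩ : f (q : M) ∈ P.map f := q.2
    refine ⟨x⁻¹ * ((q : M) * g), mul_mem (inv_mem (Subgroup.le_normalizer hx)) hqg, ?_⟩
    rw [map_mul, map_mul, map_inv, hfx, inv_mul_cancel_left]
  choose s hsN hsf using fun a : ↥(Subgroup.normalizer ((P.map f : Subgroup A) : Set A)) => himg a a.2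
  let φ : ↥W × ↥(Subgroup.normalizer ((P.map f : Subgroup A) : Set A)) → ↥N :=
    fun x => ⟨(x.1 : M) * s x.2, mul_mem (hWP x.1.2) (hsN x.2)⟩
  rw [← Nat.card_prod]
  refine Nat.card_le_card_of_injective φ ?_
  rintro ⟨w, a⟩ ⟨w', a'⟩ e
  have e' : (w : M) * s a = w' * s a' := congrArg Subtype.val e
  have ha : a = a' := Subtype.ext (by
    have := congrArg f e'
    rwa [map_mul, map_mul, MonoidHom.mem_ker.1 (hW w.2), MonoidHom.mem_ker.1 (hW w'.2), one_mul, one_mul, hsf, hsf] at this)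
  subst ha
  exact Prod.ext (Subtype.ext (mul_right_cancel e')) rfl

/-- The Sylow normalizers in the symmetric group and in `SL(3,2)` are large. -/
theorem normalizer_prime {A : Type*} [Group A] [Finite A] {p n k : ℕ} [hp : Fact p.Prime] (hA : Nat.card A = p * n)
    (hn : ¬ p ∣ n) (hk : ∀ d, d ∣ n → d % p = 1 → d ≤ k) {R : Subgroup A} (hR : Nat.card R = p) :
    p * n ≤ k * Nat.card ↥(Subgroup.normalizer (R : Set A)) := by
  have hpg : IsPGroup p R := IsPGroup.of_card (n := 1) (by rw [hR, pow_one])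
  have hidx : R.index = n := by
    have := R.card_mul_index
    rw [hR, hA] at this
    exact Nat.eq_of_mul_eq_mul_left hp.out.pos this
  let T : Sylow p A := hpg.toSylow (by rw [hidx]; exact hn)
  have hTR : (T : Subgroup A) = R := rfl
  have h1 : Nat.card (Sylow p A) ∣ n := hidx ▸ hTR ▸ T.card_dvd_index
  have h2 : Nat.card (Sylow p A) % p = 1 := by
    have := card_sylow_modEq_one p A
    rw [Nat.ModEq, Nat.one_mod_eq_one.2 hp.out.ne_one] at this
    exact this
  have h3 := (Subgroup.normalizer (R : Set A)).card_mul_index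
  have h4 : Nat.card (Sylow p A) = (Subgroup.normalizer (R : Set A)).index := hTR ▸ T.card_eq_index_normalizer
  rw [← h4, hA] at h3
  rw [← h3, mul_comm k]
  exact Nat.mul_le_mul_left _ (hk _ h1 h2)

theorem card_S5 : Nat.card S5 = 120 := by rw [Nat.card_perm, Nat.card_fin]; rfl

theorem card_norm_prod_five {R : Subgroup (S5 × SL32)} (hR : Nat.card R = 5) :
    20 * 168 ≤ Nat.card ↥(Subgroup.normalizer (R : Set (S5 × SL32))) := by
  haveI : Fact (Nat.Prime 5) := ⟨by norm_num⟩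
  -- the projection to the second factor is trivial
  have hsnd : ∀ x ∈ R, x.2 = 1 := fun x hx => by
    have h5 : x ^ 5 = 1 := by
      have := congrArg Subtype.val (pow_card_eq_one' (x := (⟨x, hx⟩ : ↥R)))
      rwa [hR] at this
    have h1 := orderOf_dvd_of_pow_eq_one (congrArg Prod.snd h5)
    have h2 := orderOf_dvd_natCard x.2
    rw [CfsgLib.Recog.HJType.card_sl_three] at h2
    exact orderOf_eq_one_iff.1 (Nat.dvd_one.1 (by simpa using Nat.dvd_gcd h1 h2))
  set R1 := R.map (MonoidHom.fst S5 SL32) with hR1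
  have hle : R ≤ R1.prod ⊥ := fun x hx => ⟨⟨x, hx, rfl⟩, hsnd x hx⟩
  have hc1 : Nat.card R1 = 5 := by
    refine Eq.trans ?_ hR
    refine (Nat.card_congr (Equiv.ofBijective (fun x : ↥R => (⟨(x : S5 × SL32).1, x, x.2, rfl⟩ : ↥R1))
      ⟨fun a b e => ?_, fun ⟨_, x, hx, e⟩ => ⟨⟨x, hx⟩, Subtype.ext e⟩⟩)).symm
    exact Subtype.ext (Prod.ext (congrArg Subtype.val e) ((hsnd _ a.2).trans (hsnd _ b.2).symm))
  have hle' : R1.prod ⊥ ≤ R := fun x ⟨hx1, hx2⟩ => by
    obtain ⟨y, hy, e⟩ := hx1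
    rwa [show x = y from Prod.ext e.symm (hx2.trans (hsnd y hy).symm)]
  have hnorm : (Subgroup.normalizer (R1 : Set S5)).prod (⊤ : Subgroup SL32) ≤
      Subgroup.normalizer (R : Set (S5 × SL32)) := by
    rintro ⟨a, b⟩ ⟨ha, -⟩
    refine norm_of_map (Subgroup.eq_of_le_of_card_ge ?_
      (by rw [Subgroup.card_map_of_injective (MulAut.conj _).injective]))
    rintro _ ⟨x, hx, rfl⟩
    refine hle' ⟨(Subgroup.mem_normalizer_iff.1 ha _).1 (hle hx).1, ?_⟩
    show b * x.2 * b⁻¹ = 1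
    rw [hsnd x hx, mul_one, mul_inv_cancel]
  have h20 : 20 ≤ Nat.card ↥(Subgroup.normalizer (R1 : Set S5)) := by
    have := normalizer_prime (A := S5) (p := 5) (n := 24) (k := 6) (by rw [card_S5]) (by norm_num)
      (fun d hd hd1 => by
        have hle := Nat.le_of_dvd (by norm_num) hd
        revert hd hd1
        interval_cases d <;> decide) hc1
    omega
  refine le_trans ?_ (Subgroup.card_le_of_le hnorm)
  rw [Nat.card_congr (Subgroup.prodEquiv _ _).toEquiv, Nat.card_prod, Subgroup.card_top,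
    CfsgLib.Recog.HJType.card_sl_three]
  exact Nat.mul_le_mul_right _ h20

theorem card_norm_prod_seven {R : Subgroup (S5 × SL32)} (hR : Nat.card R = 7) :
    120 * 21 ≤ Nat.card ↥(Subgroup.normalizer (R : Set (S5 × SL32))) := by
  haveI : Fact (Nat.Prime 7) := ⟨by norm_num⟩
  have hfst : ∀ x ∈ R, x.1 = 1 := fun x hx => by
    have h7 : x ^ 7 = 1 := by
      have := congrArg Subtype.val (pow_card_eq_one' (x := (⟨x, hx⟩ : ↥R)))
      rwa [hR] at this
    have h1 := orderOf_dvd_of_pow_eq_one (congrArg Prod.fst h7)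
    have h2 := orderOf_dvd_natCard x.1
    rw [card_S5] at h2
    exact orderOf_eq_one_iff.1 (Nat.dvd_one.1 (by simpa using Nat.dvd_gcd h1 h2))
  set R1 := R.map (MonoidHom.snd S5 SL32) with hR1
  have hle : R ≤ (⊥ : Subgroup S5).prod R1 := fun x hx => ⟨hfst x hx, x, hx, rfl⟩
  have hc1 : Nat.card R1 = 7 := by
    refine Eq.trans ?_ hR
    refine (Nat.card_congr (Equiv.ofBijective (fun x : ↥R => (⟨(x : S5 × SL32).2, x, x.2, rfl⟩ : ↥R1))
      ⟨fun a b e => ?_, fun ⟨_, x, hx, e⟩ => ⟨⟨x, hx⟩, Subtype.ext e⟩⟩)).symm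
    exact Subtype.ext (Prod.ext ((hfst _ a.2).trans (hfst _ b.2).symm) (congrArg Subtype.val e))
  have hle' : (⊥ : Subgroup S5).prod R1 ≤ R := fun x ⟨hx1, hx2⟩ => by
    obtain ⟨y, hy, e⟩ := hx2
    rwa [show x = y from Prod.ext (hx1.trans (hfst y hy).symm) e.symm]
  have hnorm : (⊤ : Subgroup S5).prod (Subgroup.normalizer (R1 : Set SL32)) ≤
      Subgroup.normalizer (R : Set (S5 × SL32)) := by
    rintro ⟨a, b⟩ ⟨-, hb⟩
    refine norm_of_map (Subgroup.eq_of_le_of_card_ge ?_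
      (by rw [Subgroup.card_map_of_injective (MulAut.conj _).injective]))
    rintro _ ⟨x, hx, rfl⟩
    refine hle' ⟨?_, (Subgroup.mem_normalizer_iff.1 hb _).1 (hle hx).2⟩
    show a * x.1 * a⁻¹ = 1
    rw [hfst x hx, mul_one, mul_inv_cancel]
  have h21 : 21 ≤ Nat.card ↥(Subgroup.normalizer (R1 : Set SL32)) := by
    have := normalizer_prime (A := SL32) (p := 7) (n := 24) (k := 8) (by rw [CfsgLib.Recog.HJType.card_sl_three])
      (by norm_num) (fun d hd hd1 => by
        have hle := Nat.le_of_dvd (by norm_num) hd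
        revert hd hd1
        interval_cases d <;> decide) hc1
    omega
  refine le_trans ?_ (Subgroup.card_le_of_le hnorm)
  rw [Nat.card_congr (Subgroup.prodEquiv _ _).toEquiv, Nat.card_prod, Subgroup.card_top, card_S5]
  exact Nat.mul_le_mul_left _ h21

variable {G : Type*} [Group G] [Finite G] {S : Setting G} {B : HexBase S}

namespace TrioLift

variable (T : TrioLift B) [IsSimpleGroup G]

theorem seven_ne_one : T.g 2 ≠ 1 := fun e => by
  have h := T.eq_one_of_mem_V (σ := gσ 2) (by rw [show T.κ (gσ 2) = 1 from e]; exact one_mem _)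
  have hne : CfsgLib.ThreeTrans.M24Inv.peq (gP 2) CfsgLib.Sporadic.pone = false := by decide +kernel
  exact peq_false (rep_gσ (by norm_num)) rep_one hne h

include T in
/-- A subgroup of order five or seven in the normalizer whose normalizer is not larger than expected. -/
theorem normalizer_le_M (hG : ¬ IsMulCommutative G) (hJ : IsOfJankoFourType G) {q : ℕ} (hq : q = 5 ∨ q = 7)
    {P : Subgroup G} (hPM : P ≤ B.trioM) (hP : Nat.card P = q) (hPC : q = 5 → P ≤ B.trioC)
    (hN : Nat.card ↥(Subgroup.normalizer (P : Set G)) = if q = 5 then 2 ^ 8 * 3 * 5 * 7 else 2 ^ 3 * 3 ^ 2 * 5 * 7) :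
    Subgroup.normalizer (P : Set G) ≤ B.trioM := by
  classical
  haveI : Fact q.Prime := ⟨by rcases hq with rfl | rfl <;> norm_num⟩
  obtain ⟨Ψ, hsurj, hker, -, -⟩ := T.exists_psi hG hJ
  set P' := P.subgroupOf B.trioM
  have hP' : Nat.card P' = q := by rw [Nat.card_congr (Subgroup.subgroupOfEquivOfLe hPM).toEquiv, hP]
  have hk : Nat.card Ψ.ker = 2 ^ 15 := by
    rw [← (T.cards hG hJ).2.2]
    exact Nat.card_congr
      { toFun := fun x => ⟨((x : ↥B.trioM) : G), (hker _).1 (MonoidHom.mem_ker.1 x.2)⟩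
        invFun := fun x => ⟨⟨x, B.trioC_le_M (B.trioL_le x.2).1⟩, MonoidHom.mem_ker.2 ((hker _).2 x.2)⟩
        left_inv := fun _ => rfl
        right_inv := fun _ => rfl }
  have hcop : ¬ q ∣ Nat.card Ψ.ker := by rw [hk]; rcases hq with rfl | rfl <;> norm_num
  set W' : Subgroup ↥B.trioM := if q = 5 then B.trioW.subgroupOf B.trioM else ⊥ with hW'
  have hWle : W' ≤ Ψ.ker ∧ W' ≤ Subgroup.normalizer (P' : Set ↥B.trioM) ∧
      (if q = 5 then 8 else 1) ≤ Nat.card W' := by
    rw [hW']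
    split_ifs with h
    · refine ⟨fun x hx => MonoidHom.mem_ker.2 ((hker x).2 (T.trioW_le_L hG hJ hx)), fun x hx => ?_, ?_⟩
      · refine norm_of_map (Subgroup.eq_of_le_of_card_ge ?_
          (by rw [Subgroup.card_map_of_injective (MulAut.conj _).injective]))
        rintro _ ⟨y, hy, rfl⟩
        have e : x * y * x⁻¹ = y := Subtype.ext (by
          show (x : G) * y * (x : G)⁻¹ = y
          have hc : (x : G) * y = y * x := Subgroup.mem_centralizer_iff.1 (hPC h hy) (x : G) hx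
          rw [hc, mul_inv_cancel_right])
        show x * y * x⁻¹ ∈ P'
        rwa [e]
      · rw [Nat.card_congr (Subgroup.subgroupOfEquivOfLe (B.trioW_le_V.trans (B.V_le_trioC.trans B.trioC_le_M))).toEquiv,
          B.card_trioW]
    · exact ⟨bot_le, bot_le, Nat.card_pos⟩
  have hcount := frattini_count Ψ hsurj hP' hcop hWle.1 hWle.2.1
  have hA : (if q = 5 then 20 * 168 else 120 * 21) ≤
      Nat.card ↥(Subgroup.normalizer ((P'.map Ψ : Subgroup _) : Set (S5 × SL32))) := by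
    have hc : Nat.card (P'.map Ψ) = q := by
      have hbot : P' ⊓ Ψ.ker = ⊥ := Subgroup.inf_eq_bot_of_coprime (by
        rw [hP']; exact ((Fact.out : q.Prime).coprime_iff_not_dvd).2 hcop)
      rw [← hP']
      refine (Nat.card_congr (Equiv.ofBijective (fun x : ↥P' => (⟨Ψ x, x, x.2, rfl⟩ : ↥(P'.map Ψ)))
        ⟨fun a b e => ?_, fun ⟨_, x, hx, e⟩ => ⟨⟨x, hx⟩, Subtype.ext e⟩⟩)).symm
      have e' : Ψ a = Ψ b := congrArg Subtype.val e
      have h1 : (a : ↥B.trioM) * (b : ↥B.trioM)⁻¹ ∈ P' ⊓ Ψ.ker :=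
        Subgroup.mem_inf.2 ⟨P'.mul_mem a.2 (P'.inv_mem b.2),
          MonoidHom.mem_ker.2 (by rw [map_mul, map_inv, e', mul_inv_cancel])⟩
      rw [hbot, Subgroup.mem_bot] at h1
      exact Subtype.ext (mul_inv_eq_one.1 h1)
    rcases hq with rfl | rfl
    · exact card_norm_prod_five hc
    · exact card_norm_prod_seven hc
  have hge : Nat.card ↥(Subgroup.normalizer (P : Set G)) ≤
      Nat.card ↥((Subgroup.normalizer (P' : Set ↥B.trioM)).map B.trioM.subtype) := by
    rw [Subgroup.card_map_of_injective B.trioM.subtype_injective, hN]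
    refine le_trans ?_ ((Nat.mul_le_mul hWle.2.2 hA).trans hcount)
    rcases hq with rfl | rfl <;> norm_num
  have hle : (Subgroup.normalizer (P' : Set ↥B.trioM)).map B.trioM.subtype ≤ Subgroup.normalizer (P : Set G) := by
    rintro _ ⟨x, hx, rfl⟩
    refine norm_of_map (Subgroup.eq_of_le_of_card_ge ?_
      (by rw [Subgroup.card_map_of_injective (MulAut.conj _).injective]))
    rintro _ ⟨y, hy, rfl⟩
    exact (Subgroup.mem_normalizer_iff.1 hx ⟨y, hPM hy⟩).1 hy
  rw [← Subgroup.eq_of_le_of_card_ge hle hge]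
  exact Subgroup.map_subtype_le _

include T in
/-- The assembled statement, given the normalizers of elements of order five and seven. -/
theorem trio_theorem (hG : ¬ IsMulCommutative G) (hJ : IsOfJankoFourType G)
    (h5 : ∀ Q : Subgroup G, Nat.card Q = 5 → Q ≤ S.H →
      ¬ 25 ∣ Nat.card G ∧ Nat.card ↥(Subgroup.normalizer (Q : Set G)) = 2 ^ 8 * 3 * 5 * 7)
    (h7 : ∀ R : Subgroup G, Nat.card R = 7 → R ≤ S.H → ¬ 49 ∣ Nat.card G ∧
      (∃ I : Subgroup G, I ≤ Subgroup.centralizer (R : Set G) ∧ Nonempty (↥I ≃* Equiv.Perm (Fin 5))) ∧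
      Nat.card ↥(Subgroup.normalizer (R : Set G)) = 2 ^ 3 * 3 ^ 2 * 5 * 7) :
    ∃ L : Subgroup G, Cfsg.IsSpecial 2 ↥L ∧ Nat.card ↥L = 2 ^ 15 ∧ Nat.card ↥(Subgroup.center ↥L) = 8 ∧
    Nonempty (↥(Subgroup.normalizer (L : Set G)) ⧸ L.subgroupOf (Subgroup.normalizer (L : Set G)) ≃* Equiv.Perm (Fin 5) × Matrix.SpecialLinearGroup (Fin 3) (ZMod 2)) ∧
    (∀ K : Subgroup ↥(Subgroup.normalizer (L : Set G)), ¬ (L.subgroupOf (Subgroup.normalizer (L : Set G))).IsComplement' K) ∧
    (∃ K₁ : Subgroup G, K₁ ≤ Subgroup.normalizer (L : Set G) ∧ Nonempty (↥K₁ ≃* Equiv.Perm (Fin 5))) ∧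
    (∃ K₂ : Subgroup G, K₂ ≤ Subgroup.normalizer (L : Set G) ∧ Nonempty (↥K₂ ≃* Matrix.SpecialLinearGroup (Fin 3) (ZMod 2))) ∧
    (∃ Q : Sylow 5 G, Subgroup.normalizer ((Q : Subgroup G) : Set G) ≤ Subgroup.normalizer (L : Set G)) ∧
    (∃ R : Sylow 7 G, Subgroup.normalizer ((R : Subgroup G) : Set G) ≤ Subgroup.normalizer (L : Set G)) := by
  classical
  haveI : Fact (Nat.Prime 5) := ⟨by norm_num⟩
  haveI : Fact (Nat.Prime 7) := ⟨by norm_num⟩
  haveI : Nonempty (Frame S) := ⟨B.X.F⟩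
  obtain ⟨hsp, hcard, -, hc8⟩ := T.special hG hJ
  obtain ⟨Ψ, hsurj, hker, -, -⟩ := T.exists_psi hG hJ
  refine ⟨B.trioL, hsp, hcard, hc8, ?_⟩
  have hNM := T.normalizer_L hG hJ
  let Ψ' := Ψ.comp (MulEquiv.subgroupCongr hNM).toMonoidHom
  have hsurj' : Function.Surjective Ψ' := hsurj.comp (MulEquiv.subgroupCongr hNM).surjective
  have hk : Ψ'.ker = B.trioL.subgroupOf (Subgroup.normalizer (B.trioL : Set G)) := by
    ext g
    rw [MonoidHom.mem_ker, Subgroup.mem_subgroupOf]
    exact hker (MulEquiv.subgroupCongr hNM g)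
  have hno : ∀ M' : Subgroup G, M' = B.trioM → ∀ K : Subgroup ↥M', ¬ (B.trioL.subgroupOf M').IsComplement' K := by
    rintro M' rfl
    exact T.no_complement hG hJ
  -- a Sylow seven subgroup of the normalizer
  set s := T.g 2
  have hsord : orderOf s = 7 := orderOf_eq_prime T.g2_pow fun e => by
    have hne := T.seven_ne_one
    exact hne e
  set R := Subgroup.zpowers s with hR
  have hR7 : Nat.card R = 7 := by rw [Nat.card_zpowers, hsord]
  have hRM : R ≤ B.trioM := Subgroup.zpowers_le.2 (T.gen_mem_M (k := 0))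
  obtain ⟨x7, hx7C, hx7⟩ := S.exists_order_in_C (q := 7) (Or.inr rfl)
  have hx7H : Subgroup.zpowers x7 ≤ S.H := Subgroup.zpowers_le.2 (S.mem_H.2 (S.mem_C.1 hx7C).1)
  obtain ⟨h49, ⟨I, hI, ⟨eI⟩⟩, hN7⟩ := h7 _ (by rw [Nat.card_zpowers, hx7]) hx7H
  have sylow_of : ∀ {p : ℕ} [Fact p.Prime], ¬ p * p ∣ Nat.card G → ∀ P : Subgroup G, Nat.card P = p →
      ∃ Q : Sylow p G, (Q : Subgroup G) = P := by
    intro p hp hpp P hP
    refine ⟨(IsPGroup.of_card (n := 1) (by rw [hP, pow_one]) : IsPGroup p P).toSylow fun h => hpp ?_, rfl⟩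
    rw [← P.card_mul_index, hP]
    exact Nat.mul_dvd_mul_left _ h
  obtain ⟨R0, hR0⟩ := sylow_of (p := 7) (by norm_num; exact h49) _ (show Nat.card (Subgroup.zpowers x7) = 7 by
    rw [Nat.card_zpowers, hx7])
  obtain ⟨R1, hR1⟩ := sylow_of (p := 7) (by norm_num; exact h49) R hR7
  obtain ⟨g, hg⟩ := MulAction.exists_smul_eq G R0 R1
  have hgR : (Subgroup.zpowers x7).map (MulAut.conj g).toMonoidHom = R := by
    rw [← hR0, ← hR1, ← hg]; rfl
  have hN7' : Nat.card ↥(Subgroup.normalizer (R : Set G)) = 2 ^ 3 * 3 ^ 2 * 5 * 7 := by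
    rw [← hN7, ← hgR, norm_map_conj, Subgroup.card_map_of_injective (MulAut.conj g).injective]
  have hRle := T.normalizer_le_M hG hJ (Or.inr rfl) hRM hR7 (by norm_num) (by rw [if_neg (by norm_num)]; exact hN7')
  -- an element of order five in the centralizer
  obtain ⟨y, hy⟩ := exists_prime_orderOf_dvd_card' (G := ↥B.trioC) 5 (by
    rw [(T.cards hG hJ).2.1]; norm_num)
  have hy5 : Nat.card (Subgroup.zpowers (y : G)) = 5 := by rw [Nat.card_zpowers, Subgroup.orderOf_coe, hy]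
  have hyH : Subgroup.zpowers (y : G) ≤ S.H := Subgroup.zpowers_le.2 (B.trioC_le_H y.2)
  obtain ⟨h25, hN5⟩ := h5 _ hy5 hyH
  obtain ⟨Q5, hQ5⟩ := sylow_of (p := 5) (by norm_num; exact h25) _ hy5
  have hQC : Subgroup.zpowers (y : G) ≤ B.trioC := Subgroup.zpowers_le.2 y.2
  refine ⟨⟨(QuotientGroup.quotientMulEquivOfEq hk.symm).trans (QuotientGroup.quotientKerEquivOfSurjective _ hsurj')⟩,
    hno _ hNM, ⟨I.map (MulAut.conj g).toMonoidHom, ?_,
      ⟨(I.equivMapOfInjective _ (MulAut.conj g).injective).symm.trans eI⟩⟩, ?_,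
    ⟨Q5, ?_⟩,
    ⟨R1, by rw [hR1, hNM]; exact hRle⟩⟩
  · rw [hNM]
    refine le_trans ?_ hRle
    rw [← hgR, norm_map_conj]
    refine Subgroup.map_mono (hI.trans fun z hz => norm_of_map (Subgroup.eq_of_le_of_card_ge ?_
      (by rw [Subgroup.card_map_of_injective (MulAut.conj z).injective])))
    rintro _ ⟨w, hw, rfl⟩
    show z * w * z⁻¹ ∈ _
    rwa [← Subgroup.mem_centralizer_iff.1 hz w hw, mul_inv_cancel_right]
  · obtain ⟨sec, hsec, hval⟩ := T.exists_section hG hJ
    have hinj : Function.Injective (T.κ.comp sec) := (injective_iff_map_eq_one _).2 fun A hA => by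
      have h1 := T.eq_one_of_mem_V (σ := sec A) (by
        rw [show T.κ (sec A) = 1 from hA]; exact one_mem _)
      have hM : T.κ (sec A) ∈ B.trioM := (T.mem_sectionSub.1 (hsec A)).2.2.1
      rw [← hval A hM, B.wSL_eq_one]
      show T.κ (sec A) ∈ B.trioC
      rw [show T.κ (sec A) = 1 from hA]; exact one_mem _
    rw [hNM]
    exact ⟨(T.κ.comp sec).range, fun x ⟨A, hA⟩ => hA ▸ (T.mem_sectionSub.1 (hsec A)).2.2.1,
      ⟨(MonoidHom.ofInjective hinj).symm⟩⟩
  · rw [hQ5, hNM]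
    exact T.normalizer_le_M hG hJ (Or.inl rfl) (hQC.trans B.trioC_le_M) hy5 (fun _ => hQC) (by rw [if_pos rfl]; exact hN5)

end TrioLift

end CfsgLib.JankoFourTrio
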