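import Cfsg.Agent.Lib.JankoFourTrio.Normalizer

/-!
# `L` has no complement in its normalizer (owner: helper28)
-/

set_option autoImplicit false
set_option linter.unusedSectionVars false
set_option maxRecDepth 100000

namespace CfsgLib.JankoFourTrio

open Cfsg CfsgLib.ThreeTrans
open CfsgLib.JankoFour CfsgLib.JankoFour.HexBase
open CfsgLib.JankoFourHexad
open CfsgLib.Sporadic (forallLt_elim)

variable {G : Type*} [Group G] [Finite G] {S : Setting G} {B : HexBase S}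

namespace TrioLift

variable (T : TrioLift B) [IsSimpleGroup G]

include T in
theorem seven_fixed_L (hG : ¬ IsMulCommutative G) (hJ : IsOfJankoFourType G) {x : G} (hx : x ∈ B.trioL)
    (hc : Commute (T.g 2) x) : x = 1 := by
  obtain ⟨n, hn, i, hi, rfl⟩ := T.L_form hG hJ hx
  have hds := ds_lt hn
  have e : B.vel (tA 2 (ds n)) * T.κ (gσ 2 * rσ i) = B.vel (ds n) * T.κ (rσ i * gσ 2) := by
    rw [← T.conj_gσ (by norm_num) hds, map_mul, map_mul]
    calc T.κ (gσ 2) * B.vel (ds n) * (T.κ (gσ 2))⁻¹ * (T.κ (gσ 2) * T.κ (rσ i))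
        = T.g 2 * (B.vel (ds n) * T.κ (rσ i)) := by group
      _ = (B.vel (ds n) * T.κ (rσ i)) * T.g 2 := hc.eq
      _ = _ := by group
  obtain ⟨e1, e2⟩ := T.split_unique (B.vel_mem (tA_lt (by norm_num) hds)) (B.vel_mem hds) e
  have hi0 : i = 0 := by
    have h := forallLt_elim seven_cent hi
    rw [(CfsgLib.ThreeTrans.M24Inv.peq_iff (rep_mul (rep_rσ i) (rep_gσ (k := 2) (by norm_num)))
      (rep_mul (rep_gσ (k := 2) (by norm_num)) (rep_rσ i))).2 (congrArg Subtype.val e2.symm)] at h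
    simpa using h
  subst hi0
  have hm := forallLt_elim seven_mask hds
  have hmask := forallLt_elim mask_ok hn
  rw [Bool.and_eq_true] at hmask
  have e3 := B.vel_inj (tA_lt (by norm_num) hds) hds e1
  simp only [hmask.1, e3, Nat.beq_refl, Bool.not_true, Bool.or_false, Bool.false_or, Nat.beq_eq] at hm
  rw [hm, vel_zero, one_mul, show rσ 0 = 1 from rfl, map_one]

include T in
theorem no_complement_aux (hG : ¬ IsMulCommutative G) (hJ : IsOfJankoFourType G)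
    (Ψ : ↥B.trioM →* Equiv.Perm (Fin 5) × Matrix.SpecialLinearGroup (Fin 3) (ZMod 2))
    (hker : ∀ g, Ψ g = 1 ↔ (g : G) ∈ B.trioL) (h2 : ∀ g, (Ψ g).2 = B.wSL g)
    (hsec : ∀ σ ∈ T.sectionSub, ∀ h : T.κ σ ∈ B.trioM, (Ψ ⟨T.κ σ, h⟩).1 = 1)
    (K : Subgroup ↥B.trioM) (hbij : Function.Bijective fun k : ↥K => Ψ k)
    (hs : (⟨T.g 2, T.gen_mem_M (k := 0)⟩ : ↥B.trioM) ∈ K) : False := by
  obtain ⟨h2g, h3g⟩ := T.gens_mem hG hJ
  set s : ↥B.trioM := ⟨T.g 2, T.gen_mem_M (k := 0)⟩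
  -- elements of the centralizer commuting with `s` lie in `K`
  have hcomm : ∀ a b : ↥B.trioM, a ∈ K → b ∈ K → (Ψ a).2 = 1 → (Ψ b).1 = 1 → Commute a b := by
    intro a b ha hb ha2 hb1
    have := @hbij.1 ⟨a * b, mul_mem ha hb⟩ ⟨b * a, mul_mem hb ha⟩ (by
      show Ψ (a * b) = Ψ (b * a)
      rw [map_mul, map_mul]
      refine Prod.ext ?_ ?_
      · rw [Prod.fst_mul, Prod.fst_mul, hb1, one_mul, mul_one]
      · rw [Prod.snd_mul, Prod.snd_mul, ha2, one_mul, mul_one])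
    exact congrArg Subtype.val this
  have hs1 : (Ψ s).1 = 1 := hsec _ h2g _
  have hmem : ∀ a : ↥B.trioM, (a : G) ∈ B.trioC → Commute (T.g 2) (a : G) → a ∈ K := by
    intro a haC hac
    obtain ⟨⟨k, hk⟩, e⟩ := hbij.2 (Ψ a)
    change Ψ k = Ψ a at e
    have hk2 : (Ψ k).2 = 1 := by rw [e, h2, B.wSL_eq_one]; exact haC
    have hl : ((k * a⁻¹ : ↥B.trioM) : G) ∈ B.trioL := (hker _).1 (by rw [map_mul, map_inv, e, mul_inv_cancel])
    have hc : Commute (T.g 2) ((k * a⁻¹ : ↥B.trioM) : G) :=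
      (show Commute (T.g 2) (k : G) from (congrArg Subtype.val (hcomm k s hk hs hk2 hs1).eq).symm).mul_right hac.inv_right
    have : k = a := mul_inv_eq_one.1 (Subtype.ext (T.seven_fixed_L hG hJ hl hc))
    exact this ▸ hk
  have hvC := vel_mem_C (B := B) (show (389 : ℕ) < 2048 by norm_num)
  have h389 : tA 2 389 = 389 := by
    have h := twist_fixed
    rw [Bool.and_eq_true] at h
    exact Nat.eq_of_beq_eq_true h.1
  set v : ↥B.trioM := ⟨B.vel 389, B.trioC_le_M hvC⟩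
  have hv : v ∈ K := hmem v hvC (T.commute_vel (by norm_num) (by norm_num) h389)
  have hu0 := T.g_mem_C (k := 0) (by norm_num) (by norm_num) (by norm_num)
  set u : ↥B.trioM := ⟨T.g 0, B.trioC_le_M hu0⟩
  have hu : u ∈ K := hmem u hu0 (by
    show T.g 2 * T.g 0 = T.g 0 * T.g 2
    rw [← map_mul, ← map_mul, gσ_pow_facts.2.2.2.1.eq])
  -- the preimage of `g`
  set g : ↥B.trioM := ⟨T.g 3, T.gen_mem_M (k := 1)⟩
  obtain ⟨⟨k, hk⟩, e⟩ := hbij.2 (Ψ g)
  change Ψ k = Ψ g at e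
  have hk1 : (Ψ k).1 = 1 := by rw [e]; exact hsec _ h3g _
  have hkv : Commute (B.vel 389) (k : G) := congrArg Subtype.val (hcomm v k hv hk (by rw [h2, B.wSL_eq_one]; exact hvC) hk1).eq
  have hku : Commute (T.g 0) (k : G) := congrArg Subtype.val (hcomm u k hu hk (by rw [h2, B.wSL_eq_one]; exact hu0) hk1).eq
  have hl : (k : G) * (T.g 3)⁻¹ ∈ B.trioL := (hker (k * g⁻¹)).1 (by rw [map_mul, map_inv, e, mul_inv_cancel])
  obtain ⟨n, hn, i, hi, el⟩ := T.L_form hG hJ hl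
  have hds := ds_lt hn
  have ek : (k : G) = B.vel (ds n) * T.κ (rσ i * gσ 3) := by
    rw [map_mul, ← mul_assoc, ← el, inv_mul_cancel_right]
  have e' : B.vel (tA 0 (ds n)) * T.κ (gσ 0 * (rσ i * gσ 3)) = B.vel (ds n) * T.κ ((rσ i * gσ 3) * gσ 0) := by
    rw [← T.conj_gσ (by norm_num) hds, map_mul T.κ (gσ 0), map_mul T.κ _ (gσ 0)]
    calc T.κ (gσ 0) * B.vel (ds n) * (T.κ (gσ 0))⁻¹ * (T.κ (gσ 0) * T.κ (rσ i * gσ 3))
        = T.g 0 * (B.vel (ds n) * T.κ (rσ i * gσ 3)) := by group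
      _ = (B.vel (ds n) * T.κ (rσ i * gσ 3)) * T.g 0 := by rw [← ek]; exact hku.eq
      _ = _ := by group
  obtain ⟨-, e2⟩ := T.split_unique (B.vel_mem (tA_lt (by norm_num) hds)) (B.vel_mem hds) e'
  have hr : rA i (tA 3 389) = 389 := by
    obtain ⟨c1, hlt⟩ := T.conj_rσ i (tA_lt (k := 3) (by norm_num) (show (389 : ℕ) < 2048 by norm_num))
    refine B.vel_inj hlt (by norm_num) ?_
    rw [← c1, ← T.conj_gσ (by norm_num) (show (389 : ℕ) < 2048 by norm_num)]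
    have h1 : (k : G) * B.vel 389 * (k : G)⁻¹ = B.vel 389 := by rw [← hkv.eq, mul_inv_cancel_right]
    rw [ek, map_mul] at h1
    have h2 : B.vel (ds n) * B.vel 389 * (B.vel (ds n))⁻¹ = B.vel 389 := by
      rw [(B.vel_comm _ _).eq, mul_inv_cancel_right]
    refine mul_left_cancel (a := B.vel (ds n)) (mul_right_cancel (b := (B.vel (ds n))⁻¹) ?_)
    rw [h2]
    refine Eq.trans ?_ h1
    group
  have hp := forallLt_elim twist_ok hi
  rw [hr, (CfsgLib.ThreeTrans.M24Inv.peq_iff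
    (rep_mul (rep_gσ (k := 0) (by norm_num)) (rep_mul (rep_rσ i) (rep_gσ (k := 3) (by norm_num))))
    (rep_mul (rep_mul (rep_rσ i) (rep_gσ (k := 3) (by norm_num))) (rep_gσ (k := 0) (by norm_num)))).2
    (congrArg Subtype.val e2)] at hp
  simp at hp

include T in
theorem no_complement (hG : ¬ IsMulCommutative G) (hJ : IsOfJankoFourType G)
    (K : Subgroup ↥B.trioM) : ¬ (B.trioL.subgroupOf B.trioM).IsComplement' K := by
  classical
  intro hK
  obtain ⟨Ψ, hsurj, hker, h2, hsec⟩ := T.exists_psi hG hJ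
  have hbij : Function.Bijective fun k : ↥K => Ψ k := by
    constructor
    · intro a b e
      change Ψ a = Ψ b at e
      have h : ((a : ↥B.trioM) * (b : ↥B.trioM)⁻¹) ∈ B.trioL.subgroupOf B.trioM ⊓ K :=
        Subgroup.mem_inf.2 ⟨Subgroup.mem_subgroupOf.2 ((hker ((a : ↥B.trioM) * (b : ↥B.trioM)⁻¹)).1
          (by rw [map_mul, map_inv, e, mul_inv_cancel])), K.mul_mem a.2 (K.inv_mem b.2)⟩
      rw [hK.disjoint.eq_bot, Subgroup.mem_bot] at h
      exact Subtype.ext (mul_inv_eq_one.1 h)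
    · intro x
      obtain ⟨g, rfl⟩ := hsurj x
      obtain ⟨⟨l, k⟩, e⟩ := hK.2 g
      refine ⟨k, ?_⟩
      show Ψ k = Ψ g
      rw [← show (l : ↥B.trioM) * k = g from e, map_mul, (hker _).2 l.2, one_mul]
  set s : ↥B.trioM := ⟨T.g 2, T.gen_mem_M (k := 0)⟩
  obtain ⟨⟨k, hk⟩, e⟩ := hbij.2 (Ψ s)
  change Ψ k = Ψ s at e
  have hl : (k : G) * (T.g 2)⁻¹ ∈ B.trioL := (hker (k * s⁻¹)).1 (by rw [map_mul, map_inv, e, mul_inv_cancel])
  -- every element of `L` is a commutator with `s`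
  let f : ↥B.trioL → ↥B.trioL := fun y => ⟨(y : G) * (T.g 2 * y * (T.g 2)⁻¹)⁻¹,
    mul_mem y.2 (inv_mem (T.trioL_conj_M hG hJ (T.gen_mem_M (k := 0)) y.2))⟩
  have hf : Function.Injective f := by
    intro a b e
    have e' : (a : G) * (T.g 2 * a * (T.g 2)⁻¹)⁻¹ = (b : G) * (T.g 2 * b * (T.g 2)⁻¹)⁻¹ := congrArg Subtype.val e
    have hc : Commute (T.g 2) ((b : G)⁻¹ * a) := by
      refine mul_inv_eq_iff_eq_mul.1 ?_
      calc T.g 2 * ((b : G)⁻¹ * a) * (T.g 2)⁻¹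
          = (b : G)⁻¹ * ((b : G) * (T.g 2 * b * (T.g 2)⁻¹)⁻¹) * (T.g 2 * a * (T.g 2)⁻¹) := by group
        _ = _ := by rw [← e']; group
    exact Subtype.ext (inv_mul_eq_one.1 (T.seven_fixed_L hG hJ (mul_mem (inv_mem b.2) a.2) hc)).symm
  obtain ⟨y, hy⟩ := (Finite.injective_iff_surjective.1 hf) ⟨_, hl⟩
  have hy' : (y : G) * (T.g 2 * y * (T.g 2)⁻¹)⁻¹ = (k : G) * (T.g 2)⁻¹ := congrArg Subtype.val hy
  have hyM : (y : G) ∈ B.trioM := B.trioC_le_M (B.trioL_le y.2).1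
  set Y : ↥B.trioM := ⟨y, hyM⟩
  have hY : Ψ Y = 1 := (hker Y).2 y.2
  refine T.no_complement_aux hG hJ Ψ hker h2 hsec (K.comap (MulAut.conj Y).toMonoidHom) ⟨fun a b e => ?_, fun x => ?_⟩ ?_
  · have := @hbij.1 ⟨_, a.2⟩ ⟨_, b.2⟩ (by
      show Ψ (Y * a * Y⁻¹) = Ψ (Y * b * Y⁻¹)
      rw [map_mul, map_mul, map_mul, map_mul, map_inv, hY]
      change Ψ a = Ψ b at e
      rw [e])
    exact Subtype.ext ((MulAut.conj Y).injective (congrArg Subtype.val this))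
  · obtain ⟨⟨c, hc⟩, rfl⟩ := hbij.2 x
    refine ⟨⟨Y⁻¹ * c * Y, by
      show Y * (Y⁻¹ * c * Y) * Y⁻¹ ∈ K
      rwa [show Y * (Y⁻¹ * c * Y) * Y⁻¹ = c by group]⟩, ?_⟩
    show Ψ (Y⁻¹ * c * Y) = Ψ c
    rw [map_mul, map_mul, map_inv, hY, inv_one, one_mul, mul_one]
  · show Y * s * Y⁻¹ ∈ K
    rw [show Y * s * Y⁻¹ = k from Subtype.ext (by
      show (y : G) * T.g 2 * (y : G)⁻¹ = k
      rw [← inv_mul_cancel_right (k : G) (T.g 2), ← hy']
      group)]
    exact hk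

end TrioLift

end CfsgLib.JankoFourTrio
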