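import Cfsg.Agent.Lib.JankoFourTrio.Linear

/-!
# The normalizer of `L` modulo `L` is `S5 × SL(3,2)` (owner: helper28)
-/

set_option autoImplicit false
set_option linter.unusedSectionVars false
set_option maxRecDepth 100000

namespace CfsgLib.JankoFourTrio

open Cfsg CfsgLib.ThreeTrans
open CfsgLib.JankoFour CfsgLib.JankoFour.HexBase
open CfsgLib.JankoFourHexad
open CfsgLib.Sporadic (forallLt_elim)

variable {G : Type*} [Group G] [Finite G] {S : Setting G} {B : HexBase S}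

namespace TrioLift

variable (T : TrioLift B) [IsSimpleGroup G]

/-- The permutations centralizing the symmetric group and acting centrally on the five cosets. -/
def sectionSub : Subgroup ↥M24 :=
  let P : Submonoid ↥M24 :=
    { carrier := {σ | Commute σ (gσ 0) ∧ Commute σ (gσ 1) ∧ T.κ σ ∈ B.trioM ∧
        ∀ c ∈ B.trioC, c⁻¹ * (T.κ σ * c * (T.κ σ)⁻¹) ∈ B.trioL}
      one_mem' := ⟨Commute.one_left _, Commute.one_left _, by rw [map_one]; exact one_mem _, fun c _ => by simp⟩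
      mul_mem' := by
        rintro σ τ ⟨a1, a2, a3, a4⟩ ⟨b1, b2, b3, b4⟩
        refine ⟨a1.mul_left b1, a2.mul_left b2, by rw [map_mul]; exact mul_mem a3 b3, fun c hc => ?_⟩
        set s := T.κ σ
        set t := T.κ τ
        have hx := b4 c hc
        have hsx : s * (c⁻¹ * (t * c * t⁻¹)) * s⁻¹ ∈ B.trioL := by
          have h1 := mul_mem hx (a4 _ (B.trioL_le hx).1)
          rwa [mul_inv_cancel_left] at h1
        rw [map_mul, show c⁻¹ * (s * t * c * (s * t)⁻¹) =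
          (c⁻¹ * (s * c * s⁻¹)) * (s * (c⁻¹ * (t * c * t⁻¹)) * s⁻¹) by group]
        exact mul_mem (a4 c hc) hsx }
  { P with
    inv_mem' := fun {σ} hσ => by
      obtain ⟨n, hn⟩ : ∃ n : ℕ, σ⁻¹ = σ ^ n := ⟨orderOf σ - 1, by
        refine inv_eq_of_mul_eq_one_right ?_
        rw [← pow_succ', Nat.sub_add_cancel (orderOf_pos σ), pow_orderOf_eq_one]⟩
      rw [hn]
      exact pow_mem (show σ ∈ P from hσ) n }

theorem mem_sectionSub {σ : ↥M24} : σ ∈ T.sectionSub ↔ Commute σ (gσ 0) ∧ Commute σ (gσ 1) ∧ T.κ σ ∈ B.trioM ∧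
    ∀ c ∈ B.trioC, c⁻¹ * (T.κ σ * c * (T.κ σ)⁻¹) ∈ B.trioL := Iff.rfl

theorem gen_mem_M {k : Fin 2} : T.g (2 + k.1) ∈ B.trioM := by
  refine norm_of_map (Subgroup.eq_of_le_of_card_ge ?_
    (by rw [Subgroup.card_map_of_injective (MulAut.conj _).injective]))
  rintro _ ⟨x, ⟨i, rfl⟩, rfl⟩
  obtain ⟨h1, h2⟩ := tab_codes k i
  refine ⟨⟨_, h1⟩, ?_⟩
  show B.vel (wCode (wTab k.1 i.1)) = T.g (2 + k.1) * B.vel (wCode i.1) * (T.g (2 + k.1))⁻¹
  rw [T.conj_gσ (by omega) (wCode_lt i), h2]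

theorem gens_mem (hG : ¬ IsMulCommutative G) (hJ : IsOfJankoFourType G) :
    gσ 2 ∈ T.sectionSub ∧ gσ 3 ∈ T.sectionSub := by
  obtain ⟨-, -, -, c02, c12, c03, c13, h33, h27, -⟩ := gσ_pow_facts
  have h2 : gσ 2 ∈ T.sectionSub := T.mem_sectionSub.2 ⟨c02.symm, c12.symm, T.gen_mem_M (k := 0),
    fun c hc => T.seven_L hG hJ hc⟩
  refine ⟨h2, ?_⟩
  have hs : sσ ∈ T.sectionSub := by
    have e : T.κ sσ = T.g 3 * (T.g 2 * T.g 3) := by simp [sσ, g]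
    have h7 : T.κ sσ ^ 7 = 1 := by
      rw [← map_pow, show sσ ^ 7 = 1 by
        have e' : sσ = gσ 3 * gσ 2 * (gσ 3)⁻¹ := by
          rw [sσ, ← mul_assoc, inv_eq_of_mul_eq_one_right h33]
        rw [e', conj_pow, h27, mul_one, mul_inv_cancel], map_one]
    have hM : T.κ sσ ∈ B.trioM := by
      rw [e]; exact mul_mem (T.gen_mem_M (k := 1)) (mul_mem (T.gen_mem_M (k := 0)) (T.gen_mem_M (k := 1)))
    exact T.mem_sectionSub.2 ⟨(c03.mul_right (c02.mul_right c03)).symm, (c13.mul_right (c12.mul_right c13)).symm, hM,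
      fun c hc => B.seven_central (T.index_eq hG hJ).le (T.mem _) h7 (fun x => B.conj_trioC hM) hc⟩
  rw [gσ_word]
  exact mul_mem h2 (mul_mem h2 (mul_mem hs (mul_mem hs (mul_mem h2 h2))))

theorem section_inj (hG : ¬ IsMulCommutative G) (hJ : IsOfJankoFourType G) {σ : ↥M24} (hσ : σ ∈ T.sectionSub)
    (hC : T.κ σ ∈ B.trioC) : σ = 1 := by
  obtain ⟨c0, c1, -, -⟩ := T.mem_sectionSub.1 hσ
  obtain ⟨n, hn, i, hi, h, hh, e⟩ := T.eq_prod hG hJ hC (T.mem σ)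
  obtain ⟨-, e2⟩ := T.split_unique (one_mem _) (B.vel_mem hn) ((one_mul _).trans e)
  subst e2
  have hf := forallLt_elim (forallLt_elim fixer_cent hi) hh
  have hp := rep_mul (rep_rσ i) (rep_hσ h)
  have g0 := rep_gσ (k := 0) (by norm_num)
  have g1 := rep_gσ (k := 1) (by norm_num)
  rw [(CfsgLib.ThreeTrans.M24Inv.peq_iff (rep_mul hp g0) (rep_mul g0 hp)).2 (congrArg Subtype.val c0.eq),
    (CfsgLib.ThreeTrans.M24Inv.peq_iff (rep_mul hp g1) (rep_mul g1 hp)).2 (congrArg Subtype.val c1.eq)] at hf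
  simp only [Bool.and_self, Bool.not_true, Bool.or_false, Bool.and_eq_true, Nat.beq_eq] at hf
  obtain ⟨rfl, rfl⟩ := hf
  rw [show rσ 0 = 1 from rfl, one_mul]
  simp [CfsgLib.JankoFourTrio.hσ]

/-- The section over `SL(3,2)`. -/
theorem exists_section (hG : ¬ IsMulCommutative G) (hJ : IsOfJankoFourType G) :
    ∃ sec : Matrix.SpecialLinearGroup (Fin 3) (ZMod 2) →* ↥M24, (∀ A, sec A ∈ T.sectionSub) ∧
      ∀ A, ∀ h : T.κ (sec A) ∈ B.trioM, B.wSL ⟨T.κ (sec A), h⟩ = A := by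
  obtain ⟨h2, h3⟩ := T.gens_mem hG hJ
  have hH : ∀ σ ∈ T.sectionSub, T.κ σ ∈ B.trioM := fun σ hσ => (T.mem_sectionSub.1 hσ).2.2.1
  let inc : ↥T.sectionSub →* ↥B.trioM := (T.κ.comp T.sectionSub.subtype).codRestrict B.trioM fun x => hH x x.2
  let φ := B.wSL.comp inc
  have hb : Function.Bijective φ := by
    refine ⟨(injective_iff_map_eq_one _).2 fun x hx => Subtype.ext ?_, fun A => ?_⟩
    · exact T.section_inj hG hJ x.2 ((B.wSL_eq_one (inc x)).1 hx)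
    · obtain ⟨σ, hσ, e⟩ := T.exists_lift_SL h2 h3 A hH
      exact ⟨⟨σ, hσ⟩, e⟩
  let e := MulEquiv.ofBijective φ hb
  refine ⟨T.sectionSub.subtype.comp e.symm.toMonoidHom, fun A => (e.symm A).2, fun A h => ?_⟩
  have := e.apply_symm_apply A
  exact this

include T in
theorem trioL_conj_M (hG : ¬ IsMulCommutative G) (hJ : IsOfJankoFourType G) {g x : G} (hg : g ∈ B.trioM)
    (hx : x ∈ B.trioL) : g * x * g⁻¹ ∈ B.trioL := by
  obtain ⟨sec, hsec, hval⟩ := T.exists_section hG hJ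
  obtain ⟨-, -, hM, hδ⟩ := T.mem_sectionSub.1 (hsec (B.wSL ⟨g, hg⟩))
  set s := T.κ (sec (B.wSL ⟨g, hg⟩))
  have hc : g * s⁻¹ ∈ B.trioC := (B.wSL_eq_one ⟨_, mul_mem hg (inv_mem hM)⟩).1 (by
    rw [show (⟨g * s⁻¹, _⟩ : ↥B.trioM) = ⟨g, hg⟩ * ⟨s, hM⟩⁻¹ from rfl, map_mul, map_inv, hval _ hM, mul_inv_cancel])
  have h1 := mul_mem hx (hδ x (B.trioL_le hx).1)
  rw [mul_inv_cancel_left] at h1
  have h2 := B.trioL_conj h1 hc
  rwa [show g * s⁻¹ * (s * x * s⁻¹) * (g * s⁻¹)⁻¹ = g * x * g⁻¹ by group] at h2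

include T in
theorem normalizer_L (hG : ¬ IsMulCommutative G) (hJ : IsOfJankoFourType G) :
    Subgroup.normalizer (B.trioL : Set G) = B.trioM := by
  obtain ⟨hZ, -, -⟩ := T.L_facts hG hJ
  have hWL := T.trioW_le_L hG hJ
  ext g
  constructor
  · intro hg
    refine norm_of_map (Subgroup.eq_of_le_of_card_ge ?_
      (by rw [Subgroup.card_map_of_injective (MulAut.conj g).injective]))
    rintro _ ⟨x, hx, rfl⟩
    have hgx : g * x * g⁻¹ ∈ B.trioL := (Subgroup.mem_normalizer_iff.1 hg x).1 (hWL hx)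
    refine (hZ _ hgx).1 fun y hy => ?_
    have h1 := (hZ x (hWL hx)).2 hx (g⁻¹ * y * g)
      ((Subgroup.mem_normalizer_iff.1 hg _).2 (by
        show g * (g⁻¹ * y * g) * g⁻¹ ∈ B.trioL
        rwa [show g * (g⁻¹ * y * g) * g⁻¹ = y by group]))
    show g * x * g⁻¹ * y = y * (g * x * g⁻¹)
    calc g * x * g⁻¹ * y = g * (x * (g⁻¹ * y * g)) * g⁻¹ := by group
      _ = g * ((g⁻¹ * y * g) * x) * g⁻¹ := by rw [h1.eq]
      _ = _ := by group
  · intro hg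
    refine Subgroup.mem_normalizer_iff.2 fun x => ⟨fun hx => T.trioL_conj_M hG hJ hg hx, fun hx => ?_⟩
    have := T.trioL_conj_M hG hJ (inv_mem hg) hx
    rwa [inv_inv, show g⁻¹ * (g * x * g⁻¹) * g = x by group] at this

include T in
/-- The quotient map. -/
theorem exists_psi (hG : ¬ IsMulCommutative G) (hJ : IsOfJankoFourType G) :
    ∃ Ψ : ↥B.trioM →* Equiv.Perm (Fin 5) × Matrix.SpecialLinearGroup (Fin 3) (ZMod 2),
      Function.Surjective Ψ ∧ (∀ g, Ψ g = 1 ↔ (g : G) ∈ B.trioL) ∧ (∀ g, (Ψ g).2 = B.wSL g) ∧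
        ∀ σ ∈ T.sectionSub, ∀ h : T.κ σ ∈ B.trioM, (Ψ ⟨T.κ σ, h⟩).1 = 1 := by
  classical
  obtain ⟨-, ρ, hρ, hker⟩ := T.exists_rho hG hJ
  obtain ⟨sec, hsec, hval⟩ := T.exists_section hG hJ
  have hM : ∀ A, T.κ (sec A) ∈ B.trioM := fun A => (T.mem_sectionSub.1 (hsec A)).2.2.1
  have hc : ∀ g : ↥B.trioM, (g : G) * (T.κ (sec (B.wSL g)))⁻¹ ∈ B.trioC := fun g =>
    (B.wSL_eq_one ⟨_, mul_mem g.2 (inv_mem (hM _))⟩).1 (by
      rw [show (⟨(g : G) * (T.κ (sec (B.wSL g)))⁻¹, _⟩ : ↥B.trioM) = g * ⟨_, hM (B.wSL g)⟩⁻¹ from rfl, map_mul,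
        map_inv, hval _ (hM _), mul_inv_cancel])
  have hmul : ∀ g h : ↥B.trioM, ρ ⟨_, hc (g * h)⟩ = ρ ⟨_, hc g⟩ * ρ ⟨_, hc h⟩ := by
    intro g h
    set s := T.κ (sec (B.wSL g)) with hs
    set c' : ↥B.trioC := ⟨_, hc h⟩ with hc'
    obtain ⟨-, -, -, hδ⟩ := T.mem_sectionSub.1 (hsec (B.wSL g))
    have hδ' := hδ _ c'.2
    have e : ∀ x : ↥B.trioC, (x : G) = (c' : G)⁻¹ * (s * c' * s⁻¹) → ρ x = 1 := fun x hx => (hker x).2 (hx ▸ hδ')
    rw [← map_mul]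
    have he := e ⟨_, (B.trioL_le hδ').1⟩ rfl
    calc ρ ⟨_, hc (g * h)⟩ = ρ (⟨_, hc g⟩ * c' * ⟨(c' : G)⁻¹ * (s * c' * s⁻¹), (B.trioL_le hδ').1⟩) := by
          refine congrArg ρ (Subtype.ext ?_)
          have hst : T.κ (sec (B.wSL (g * h))) = s * T.κ (sec (B.wSL h)) := by
            simp only [map_mul, hs]
          show (g : G) * h * (T.κ (sec (B.wSL (g * h))))⁻¹ = (g : G) * s⁻¹ * ((h : G) * (T.κ (sec (B.wSL h)))⁻¹) *
            (((h : G) * (T.κ (sec (B.wSL h)))⁻¹)⁻¹ * (s * ((h : G) * (T.κ (sec (B.wSL h)))⁻¹) * s⁻¹))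
          rw [hst]
          group
      _ = _ := by rw [map_mul, he, mul_one]
  let Ψ : ↥B.trioM →* Equiv.Perm (Fin 5) × Matrix.SpecialLinearGroup (Fin 3) (ZMod 2) :=
    MonoidHom.mk' (fun g => (ρ ⟨_, hc g⟩, B.wSL g)) fun g h => Prod.ext (hmul g h) (map_mul _ _ _)
  have hone : ∀ g : ↥B.trioM, B.wSL g = 1 → (g : G) * (T.κ (sec (B.wSL g)))⁻¹ = g := fun g hg => by
    rw [hg, map_one, map_one, inv_one, mul_one]
  refine ⟨Ψ, fun x => ?_, fun g => ?_, fun g => rfl, fun σ hσ h => ?_⟩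
  · obtain ⟨c, hcx⟩ := hρ x.1
    refine ⟨⟨c * T.κ (sec x.2), mul_mem (B.trioC_le_M c.2) (hM _)⟩, ?_⟩
    have hA : B.wSL ⟨c * T.κ (sec x.2), mul_mem (B.trioC_le_M c.2) (hM _)⟩ = x.2 := by
      rw [show (⟨(c : G) * T.κ (sec x.2), _⟩ : ↥B.trioM) = ⟨c, B.trioC_le_M c.2⟩ * ⟨_, hM x.2⟩ from rfl, map_mul,
        hval _ (hM _), (B.wSL_eq_one ⟨(c : G), B.trioC_le_M c.2⟩).2 c.2, one_mul]
    refine Prod.ext ?_ hA
    show ρ ⟨_, hc _⟩ = x.1
    rw [← hcx]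
    refine congrArg ρ (Subtype.ext ?_)
    show (c : G) * T.κ (sec x.2) * (T.κ (sec (B.wSL _)))⁻¹ = c
    rw [hA, mul_inv_cancel_right]
  · constructor
    · intro hg
      have h2 : B.wSL g = 1 := congrArg Prod.snd hg
      have h1 : ρ ⟨_, hc g⟩ = 1 := congrArg Prod.fst hg
      have := (hker _).1 h1
      rwa [show ((⟨_, hc g⟩ : ↥B.trioC) : G) = (g : G) from hone g h2] at this
    · intro hg
      have h2 : B.wSL g = 1 := (B.wSL_eq_one g).2 (B.trioL_le hg).1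
      refine Prod.ext ((hker _).2 ?_) h2
      rwa [show ((⟨_, hc g⟩ : ↥B.trioC) : G) = (g : G) from hone g h2]
  · have hσ' : sec (B.wSL ⟨T.κ σ, h⟩) = σ := by
      have hq : sec (B.wSL ⟨T.κ σ, h⟩) * σ⁻¹ = 1 := T.section_inj hG hJ (mul_mem (hsec _) (inv_mem hσ)) (by
        rw [map_mul, map_inv]
        refine (B.wSL_eq_one ⟨_, mul_mem (hM _) (inv_mem h)⟩).1 ?_
        rw [show (⟨T.κ (sec (B.wSL ⟨T.κ σ, h⟩)) * (T.κ σ)⁻¹, _⟩ : ↥B.trioM) = ⟨_, hM _⟩ * ⟨T.κ σ, h⟩⁻¹ from rfl,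
          map_mul, map_inv, hval _ (hM _), mul_inv_cancel])
      exact mul_inv_eq_one.1 hq
    show ρ ⟨_, hc _⟩ = 1
    refine (hker _).2 ?_
    show T.κ σ * (T.κ (sec (B.wSL ⟨T.κ σ, h⟩)))⁻¹ ∈ B.trioL
    rw [hσ', mul_inv_cancel]
    exact one_mem _

end TrioLift

end CfsgLib.JankoFourTrio
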