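import Cfsg.Agent.Lib.JankoFourTrio.Act
import Cfsg.Agent.Lib.JankoFourFive.Local

/-!
# The elementary group of order eight and a bound on its centralizer (owner: helper28)
-/

set_option autoImplicit false
set_option linter.unusedSectionVars false
set_option maxRecDepth 100000

namespace CfsgLib.JankoFour

open Cfsg CfsgLib.ThreeTrans
open CfsgLib.JankoFourHexad CfsgLib.JankoFourTrio
open CfsgLib.Sporadic (forallLt_elim)

variable {G : Type*} [Group G] [Finite G]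

namespace HexBase

variable {S : Setting G} (B : HexBase S)

/-- The elementary group of order eight of trio type. -/
def trioW : Subgroup G where
  carrier := {x | ∃ i : Fin 8, B.vel (wCode i.1) = x}
  one_mem' := ⟨0, B.vel_zero⟩
  mul_mem' := by
    rintro _ _ ⟨i, rfl⟩ ⟨j, rfl⟩
    obtain ⟨k, hk⟩ := wCode_xor i j
    exact ⟨k, by rw [B.vel_xor, hk]⟩
  inv_mem' := by
    rintro _ ⟨i, rfl⟩
    exact ⟨i, (inv_eq_of_mul_eq_one_right (B.vel_sq _)).symm⟩

theorem wCode_lt (i : Fin 8) : wCode i.1 < 2048 := by revert i; decide +kernel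

theorem trioW_le_V : B.trioW ≤ B.V := by rintro _ ⟨i, rfl⟩; exact B.vel_mem (wCode_lt i)

theorem trioW_gen_mem : B.vel 1 ∈ B.trioW ∧ B.vel 10 ∈ B.trioW ∧ B.vel 20 ∈ B.trioW :=
  ⟨⟨1, rfl⟩, ⟨2, rfl⟩, ⟨4, rfl⟩⟩

theorem inW_mem {n : ℕ} (hn : n < 2048) (h : inW n = true) : B.vel n ∈ B.trioW := by
  have h' := forallLt_elim inW_iff hn
  rw [h, beq_iff_eq, eq_comm] at h'
  simp only [Bool.or_eq_true, Nat.beq_eq] at h'
  rcases h' with (((((((e | e) | e) | e) | e) | e) | e) | e) <;> subst e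
  exacts [⟨0, rfl⟩, ⟨1, rfl⟩, ⟨2, rfl⟩, ⟨3, rfl⟩, ⟨4, rfl⟩, ⟨5, rfl⟩, ⟨6, rfl⟩, ⟨7, rfl⟩]

theorem card_trioW : Nat.card B.trioW = 8 := by
  let f : Fin 8 → B.trioW := fun i => ⟨_, i, rfl⟩
  have hf : Function.Bijective f :=
    ⟨fun i j h => wCode_inj i j (B.vel_inj (wCode_lt i) (wCode_lt j) (congrArg Subtype.val h)),
      fun ⟨x, i, e⟩ => ⟨i, Subtype.ext e⟩⟩
  rw [← Nat.card_congr (Equiv.ofBijective f hf), Nat.card_fin]

/-- The centralizer of the elementary group of order eight. -/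
def trioC : Subgroup G := Subgroup.centralizer (B.trioW : Set G)

theorem mem_trioC {x : G} :
    x ∈ B.trioC ↔ Commute x (B.vel 1) ∧ Commute x (B.vel 10) ∧ Commute x (B.vel 20) := by
  obtain ⟨h1, h2, h3⟩ := B.trioW_gen_mem
  constructor
  · exact fun h => ⟨(Subgroup.mem_centralizer_iff.1 h _ h1).symm, (Subgroup.mem_centralizer_iff.1 h _ h2).symm,
      (Subgroup.mem_centralizer_iff.1 h _ h3).symm⟩
  · rintro ⟨c1, c2, c3⟩
    refine Subgroup.mem_centralizer_iff.2 ?_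
    rintro _ ⟨i, rfl⟩
    have e : ∀ {a b : ℕ}, Commute x (B.vel a) → Commute x (B.vel b) → Commute x (B.vel (Nat.xor a b)) :=
      fun ha hb => B.vel_xor _ _ ▸ ha.mul_right hb
    obtain ⟨d3, d5, d6, d7⟩ : Nat.xor 1 10 = 11 ∧ Nat.xor 1 20 = 21 ∧ Nat.xor 10 20 = 30 ∧ Nat.xor 11 20 = 31 := by
      decide +kernel
    refine (?_ : Commute x _).eq.symm
    have c11 := e c1 c2
    rw [d3] at c11
    have c21 := e c1 c3
    rw [d5] at c21
    have c30 := e c2 c3
    rw [d6] at c30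
    have c31 := e c11 c3
    rw [d7] at c31
    fin_cases i
    · show Commute x (B.vel 0); rw [B.vel_zero]; exact Commute.one_right x
    exacts [c1, c2, c11, c3, c21, c30, c31]

theorem trioC_le_H : B.trioC ≤ S.H := fun x hx => S.mem_H.2 (B.vel_one ▸ (B.mem_trioC.1 hx).1)

theorem vel_ten : B.vel 10 = B.U 5 ∧ B.vel 20 = B.U 10 :=
  ⟨B.vel_U (u := 5) (by norm_num), B.vel_U (u := 10) (by norm_num)⟩

theorem U_five_p : B.U 10 = B.X.F.p * B.U 5 * B.X.F.p⁻¹ := by
  rw [(B.p_acts 5 (by norm_num)).2.1, mP_five.1]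

theorem q_five : B.q 5 = B.U 5 ∧ B.q 0 = 1 := by
  constructor
  · show B.U (5 % 64) * B.W (5 / 64) = _
    rw [show (5 : ℕ) % 64 = 5 from rfl, show (5 : ℕ) / 64 = 0 from rfl, W_zero, mul_one]
  · show B.U (0 % 64) * B.W (0 / 64) = _
    rw [show (0 : ℕ) % 64 = 0 from rfl, show (0 : ℕ) / 64 = 0 from rfl, W_zero, U_zero, mul_one]

theorem W_conj_U {u w : ℕ} (hu : u < 64) (hw : w < 64) :
    B.W w * B.U u * (B.W w)⁻¹ = zpar S.z (pairB u w) * B.U u := by
  have h := B.UW_rel hu hw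
  have hc : Commute (zpar S.z (pairB u w)) (B.U u) := z_comm (B.X.F1_le_E (B.U_mem u)) _
  have hc' : Commute (zpar S.z (pairB u w)) (B.W w) := z_comm (B.X.F2_le_E (B.W_mem w)) _
  have e : B.W w * B.U u = B.U u * B.W w * zpar S.z (pairB u w) := by
    rw [h, mul_assoc (B.W w * B.U u), zpar_sq S.z_sq, mul_one]
  rw [e, mul_assoc (B.U u), ← hc'.eq, ← mul_assoc, mul_inv_cancel_right, hc.eq]

/-- A code reached from the code `5` by the centralizer of `P`. -/
def Reach (n : ℕ) : Prop := n < 4096 ∧ ∃ t ∈ S.C, t * B.q 5 * t⁻¹ * (B.q n)⁻¹ ∈ Subgroup.zpowers S.z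

theorem reach_fold : ∀ (l : List ℕ) (m : ℕ), (∀ n, m.testBit n = true → B.Reach n) →
    ∀ n, (l.foldl orbStep m).testBit n = true → B.Reach n
  | [], _, h, n, hn => h n hn
  | c :: l, m, h, n, hn => by
    refine reach_fold l (orbStep m c) (fun k hk => ?_) n hn
    unfold orbStep at hk
    split at hk
    · next hc =>
      rw [Bool.and_eq_true, Nat.blt_eq] at hc
      change (m ||| 1 <<< qGen (c % 16) (c / 16)).testBit k = true at hk
      rw [Nat.testBit_or, Bool.or_eq_true] at hk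
      rcases hk with hk | hk
      · exact h k hk
      · rw [Nat.one_shiftLeft, Nat.testBit_two_pow, decide_eq_true_iff] at hk
        subst hk
        obtain ⟨hlt, t, htC, ht⟩ := h _ hc.1
        obtain ⟨s, hsC, hs⟩ := B.exists_gen ⟨c % 16, hc.2⟩
        obtain ⟨h1, h2⟩ := hs _ hlt
        refine ⟨h1, s * t, mul_mem hsC htC, ?_⟩
        rw [show s * t * B.q 5 * (s * t)⁻¹ * (B.q (qGen (c % 16) (c / 16)))⁻¹ =
          s * (t * B.q 5 * t⁻¹ * (B.q (c / 16))⁻¹) * s⁻¹ *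
            (s * B.q (c / 16) * s⁻¹ * (B.q (qGen (c % 16) (c / 16)))⁻¹) by group,
          z_pow_comm (Frame.commute_z hsC) ht]
        exact mul_mem ht h2
    · exact h k hk

theorem reach_mask {n : ℕ} (hn : orbMask.testBit n = true) : B.Reach n := by
  refine B.reach_fold trioOrbit (2 ^ 5) (fun k hk => ?_) n hn
  rw [Nat.testBit_two_pow, decide_eq_true_iff] at hk
  subst hk
  exact ⟨by norm_num, 1, one_mem _, by simp⟩

/-- Commuting with a power of `p` up to the centre. -/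
theorem p_fixed_zpowers {Y : G} (hY : Y ∈ S.E)
    (h : B.X.F.p⁻¹ * Y * B.X.F.p * (B.X.F.p * Y * B.X.F.p⁻¹)⁻¹ ∈ Subgroup.zpowers S.z) :
    Y ∈ Subgroup.zpowers S.z := by
  set p := B.X.F.p
  have hp3 : p * p * p = 1 := by rw [← pow_three']; exact B.X.F.hp3 ▸ pow_orderOf_eq_one _
  set c := p⁻¹ * Y * p * (p * Y * p⁻¹)⁻¹ with hc
  have hpp : p * p = p⁻¹ := eq_inv_of_mul_eq_one_left hp3
  have hcp : p * c * p⁻¹ = c := z_pow_comm (Frame.commute_z B.X.F.hpC) h
  have hc2 : c * c = 1 := by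
    rcases S.hE.eq_or h with e | e <;> rw [e]
    exacts [one_mul 1, S.z_sq]
  have e : p * Y * p⁻¹ = Y := by
    symm
    calc Y = p * (c * (p * Y * p⁻¹)) * p⁻¹ := by rw [hc]; group
      _ = (p * c * p⁻¹) * ((p * p) * Y * (p * p)⁻¹) := by group
      _ = c * (p⁻¹ * Y * p) := by rw [hcp, hpp, inv_inv]
      _ = c * (c * (p * Y * p⁻¹)) := by rw [hc]; group
      _ = p * Y * p⁻¹ := by rw [← mul_assoc, hc2, one_mul]
  rw [← S.hCP]
  refine ⟨hY, Subgroup.mem_centralizer_iff.2 fun r hr => ?_⟩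
  obtain ⟨i, rfl⟩ := B.X.F.P_eq hr
  exact ((show Commute p Y from mul_inv_eq_iff_eq_mul.1 e).pow_left i).eq

/-- The centralizer of the elementary group of order eight is small. -/
theorem card_trioC_le (hJ : IsOfJankoFourType G) : Nat.card B.trioC ≤ 2 ^ 18 * 15 := by
  classical
  haveI : Nonempty (Frame S) := ⟨B.X.F⟩
  obtain ⟨n0, hn0, hn00, -⟩ := B.exists_outer_norm_P hJ
  have hinv := S.outer_inverts hn0 hn00 B.X.F.hpP
  choose t htC ht using fun n : {n : Fin 4096 // orbMask.testBit n.1 = true} => (B.reach_mask n.2).2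
  set p := B.X.F.p with hp
  -- the representatives
  let R : {n : Fin 4096 // orbMask.testBit n.1 = true} × Fin 2 × Fin 2 × Fin 2 → G :=
    fun a => n0 ^ (a.2.1 : ℕ) * t a.1 * B.W (2 * (a.2.2.1 : ℕ) + a.2.2.2)
  have hw : ∀ a b : Fin 2, 2 * (a : ℕ) + b < 64 := fun a b => by omega
  have hRH : ∀ a, R a ∈ S.H := fun a => S.mem_H.2 ((((hn0.1).pow_left _).mul_left (Frame.commute_z (htC _))).mul_left
    (S.hE.commute_z (B.X.F2_le_E (B.W_mem _))))
  have hzc : ∀ {x c : G}, Commute x S.z → c ∈ Subgroup.zpowers S.z → x * c * x⁻¹ = c := fun hx hc =>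
    z_pow_comm hx hc
  have hfix : ∀ {x v : G}, Commute x v → x * v * x⁻¹ = v := fun h => by rw [h.eq, mul_inv_cancel_right]
  -- the images modulo the centre
  have hX : ∀ n a b, ∃ c ∈ Subgroup.zpowers S.z, ∃ c' ∈ Subgroup.zpowers S.z,
      t n * B.W (2 * (a : Fin 2).1 + (b : Fin 2).1) * B.U 5 * (t n * B.W (2 * a.1 + b.1))⁻¹ = c * B.q n.1.1 ∧
      t n * B.W (2 * a.1 + b.1) * B.U 10 * (t n * B.W (2 * a.1 + b.1))⁻¹ = c' * (p * B.q n.1.1 * p⁻¹) := by
    intro n a b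
    have hz1 : ∀ m, zpar S.z m ∈ Subgroup.zpowers S.z := fun m => by
      rcases zpar_mem (c := S.z) m with e | e <;> rw [e]
      exacts [one_mem _, Subgroup.mem_zpowers _]
    obtain ⟨c, hc, hc'⟩ : ∃ c ∈ Subgroup.zpowers S.z, t n * B.U 5 * (t n)⁻¹ = c * B.q n.1.1 := by
      have := ht n
      rw [B.q_five.1] at this
      exact ⟨_, this, by group⟩
    have htz := Frame.commute_z (S := S) (htC n)
    refine ⟨zpar S.z (pairB 5 (2 * a.1 + b.1)) * c, mul_mem (hz1 _) hc, zpar S.z (pairB 10 (2 * a.1 + b.1)) * c,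
      mul_mem (hz1 _) hc, ?_, ?_⟩
    · rw [show t n * B.W _ * B.U 5 * (t n * B.W (2 * a.1 + b.1))⁻¹ =
        t n * (B.W (2 * a.1 + b.1) * B.U 5 * (B.W (2 * a.1 + b.1))⁻¹) * (t n)⁻¹ by group,
        B.W_conj_U (by norm_num) (hw a b), ← conj_mul, hzc htz (hz1 _), hc']
      group
    · have hpt : Commute (t n) p := (S.mem_C.1 (htC n)).2 _ B.X.F.hpP
      rw [show t n * B.W _ * B.U 10 * (t n * B.W (2 * a.1 + b.1))⁻¹ =
        t n * (B.W (2 * a.1 + b.1) * B.U 10 * (B.W (2 * a.1 + b.1))⁻¹) * (t n)⁻¹ by group,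
        B.W_conj_U (by norm_num) (hw a b), ← conj_mul, hzc htz (hz1 _), B.U_five_p]
      rw [show t n * (p * B.U 5 * p⁻¹) * (t n)⁻¹ = (t n * p) * B.U 5 * (t n * p)⁻¹ by group, hpt.eq,
        show p * t n * B.U 5 * (p * t n)⁻¹ = p * (t n * B.U 5 * (t n)⁻¹) * p⁻¹ by group, hc', ← conj_mul,
        hzc (Frame.commute_z B.X.F.hpC) hc]
      group
  -- different representatives have different images
  have hcross : ∀ n a b n' a' b', ¬ ∀ x ∈ ({B.U 5, B.U 10} : Set G),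
      n0 * (t n * B.W (2 * (a : Fin 2).1 + (b : Fin 2).1) * x * (t n * B.W (2 * a.1 + b.1))⁻¹) * n0⁻¹ =
        t n' * B.W (2 * (a' : Fin 2).1 + (b' : Fin 2).1) * x * (t n' * B.W (2 * a'.1 + b'.1))⁻¹ := by
    intro n a b n' a' b' h
    obtain ⟨c, hc, c', hc', e1, e2⟩ := hX n a b
    obtain ⟨d, hd, d', hd', f1, f2⟩ := hX n' a' b'
    have h1 := h _ (Or.inl rfl)
    have h2 := h _ (Or.inr rfl)
    rw [e1, f1, ← conj_mul, hzc hn0.1 hc] at h1
    rw [e2, f2, ← conj_mul, hzc hn0.1 hc'] at h2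
    set q := B.q n.1.1
    set q' := B.q n'.1.1 with hq'
    have g1 : n0 * q * n0⁻¹ = c⁻¹ * d * q' := by rw [mul_assoc c⁻¹, ← h1]; group
    have hpc : p⁻¹ * (c⁻¹ * d) * p = c⁻¹ * d := by
      simpa using hzc (Frame.commute_z B.X.F.hpC).inv_left (mul_mem (inv_mem hc) hd)
    have g2 : n0 * (p * q * p⁻¹) * n0⁻¹ = c⁻¹ * d * (p⁻¹ * q' * p) := by
      rw [show n0 * (p * q * p⁻¹) * n0⁻¹ = (n0 * p * n0⁻¹) * (n0 * q * n0⁻¹) * (n0 * p * n0⁻¹)⁻¹ by group, hinv,
        inv_inv, g1, show p⁻¹ * (c⁻¹ * d * q') * p = (p⁻¹ * (c⁻¹ * d) * p) * (p⁻¹ * q' * p) by group, hpc]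
    rw [g2] at h2
    have hq'z : q' ∈ Subgroup.zpowers S.z := B.p_fixed_zpowers (B.q_mem _) (by
      have e : p⁻¹ * q' * p * (p * q' * p⁻¹)⁻¹ = (c' * (c⁻¹ * d))⁻¹ * d' := by
        rw [mul_inv_eq_iff_eq_mul, mul_assoc (c' * (c⁻¹ * d))⁻¹, ← h2]
        group
      rw [e]
      exact mul_mem (inv_mem (mul_mem hc' (mul_mem (inv_mem hc) hd))) hd')
    have : n'.1.1 = 0 := B.q_inj n'.1.2 (by norm_num) (by rw [B.q_five.2, inv_one, mul_one]; exact hq'z)
    have h5 := n'.2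
    rw [this, orb_zero] at h5
    exact Bool.noConfusion h5
  have hinj : Function.Injective fun x : ({n : Fin 4096 // orbMask.testBit n.1 = true} × Fin 2 × Fin 2 × Fin 2) ×
      ↥B.trioC => (⟨R x.1 * x.2, mul_mem (hRH x.1) (B.trioC_le_H x.2.2)⟩ : ↥S.H) := by
    rintro ⟨⟨n, e, a, b⟩, y⟩ ⟨⟨n', e', a', b'⟩, y'⟩ heq
    have he : R (n, e, a, b) * (y : G) = R (n', e', a', b') * y' := congrArg Subtype.val heq
    -- the two representatives move the generators alike
    have himg : ∀ x ∈ ({B.U 5, B.U 10} : Set G),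
        R (n, e, a, b) * x * (R (n, e, a, b))⁻¹ = R (n', e', a', b') * x * (R (n', e', a', b'))⁻¹ := by
      intro x hx
      have hcom : ∀ {y : G}, y ∈ B.trioC → y * x * y⁻¹ = x := fun hy => by
        rcases hx with rfl | rfl
        · exact hfix (B.vel_ten.1 ▸ (B.mem_trioC.1 hy).2.1)
        · exact hfix (B.vel_ten.2 ▸ (B.mem_trioC.1 hy).2.2)
      calc R (n, e, a, b) * x * (R (n, e, a, b))⁻¹
          = (R (n, e, a, b) * (y : G)) * x * (R (n, e, a, b) * (y : G))⁻¹ := by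
            conv_lhs => rw [← hcom y.2]
            group
        _ = R (n', e', a', b') * ((y' : G) * x * (y' : G)⁻¹) * (R (n', e', a', b'))⁻¹ := by rw [he]; group
        _ = _ := by rw [hcom y'.2]
    simp only [R] at himg
    have hee : e = e' := by
      by_contra hne
      fin_cases e <;> fin_cases e' <;> first | exact hne rfl | skip
      · refine hcross n' a' b' n a b fun x hx => ?_
        have := himg x hx
        simp only [pow_zero, pow_one, one_mul] at this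
        rw [this]; group
      · refine hcross n a b n' a' b' fun x hx => ?_
        have := himg x hx
        simp only [pow_zero, pow_one, one_mul] at this
        rw [← this]; group
    subst hee
    have himg' : ∀ x ∈ ({B.U 5, B.U 10} : Set G), t n * B.W (2 * a.1 + b.1) * x * (t n * B.W (2 * a.1 + b.1))⁻¹ =
        t n' * B.W (2 * a'.1 + b'.1) * x * (t n' * B.W (2 * a'.1 + b'.1))⁻¹ := by
      intro x hx
      have h0 := himg x hx
      refine mul_left_cancel (a := n0 ^ (e : ℕ)) (mul_right_cancel (b := (n0 ^ (e : ℕ))⁻¹) ?_)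
      calc _ = n0 ^ (e : ℕ) * t n * B.W (2 * a.1 + b.1) * x * (n0 ^ (e : ℕ) * t n * B.W (2 * a.1 + b.1))⁻¹ := by group
        _ = _ := by rw [h0]; group
    obtain ⟨c, hc, c', hc', e1, e2⟩ := hX n a b
    obtain ⟨d, hd, d', hd', f1, f2⟩ := hX n' a' b'
    have h1 := himg' _ (Or.inl rfl)
    rw [e1, f1] at h1
    have hnn : n = n' := Subtype.ext (Fin.ext (B.q_inj n.1.2 n'.1.2 (by
      rw [show B.q n.1.1 * (B.q n'.1.1)⁻¹ = c⁻¹ * d by rw [← mul_inv_eq_iff_eq_mul.2 h1]; group]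
      exact mul_mem (inv_mem hc) hd)))
    subst hnn
    have hab : ∀ u, u = 5 ∨ u = 10 → pairB u (2 * a.1 + b.1) = pairB u (2 * a'.1 + b'.1) := by
      intro u hu
      have hu64 : u < 64 := by rcases hu with rfl | rfl <;> norm_num
      have h0 := himg' (B.U u) (by rcases hu with rfl | rfl <;> simp)
      have h2 : B.W (2 * a.1 + b.1) * B.U u * (B.W (2 * a.1 + b.1))⁻¹ =
          B.W (2 * a'.1 + b'.1) * B.U u * (B.W (2 * a'.1 + b'.1))⁻¹ := by
        refine mul_left_cancel (a := t n) (mul_right_cancel (b := (t n)⁻¹) ?_)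
        calc _ = t n * B.W (2 * a.1 + b.1) * B.U u * (t n * B.W (2 * a.1 + b.1))⁻¹ := by group
          _ = _ := by rw [h0]; group
      rw [B.W_conj_U hu64 (hw a b), B.W_conj_U hu64 (hw a' b'), mul_left_inj] at h2
      have hp1 : ∀ a b : Fin 2, pairB 5 (2 * a.1 + b.1) < 2 ∧ pairB 10 (2 * a.1 + b.1) < 2 := fun a b => by
        rw [(pair_signs a b).1, (pair_signs a b).2]; exact ⟨a.2, b.2⟩
      have l1 : pairB u (2 * a.1 + b.1) < 2 ∧ pairB u (2 * a'.1 + b'.1) < 2 := by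
        rcases hu with rfl | rfl
        exacts [⟨(hp1 a b).1, (hp1 a' b').1⟩, ⟨(hp1 a b).2, (hp1 a' b').2⟩]
      generalize pairB u (2 * a.1 + b.1) = P1 at h2 l1
      generalize pairB u (2 * a'.1 + b'.1) = P2 at h2 l1
      obtain ⟨l1, l2⟩ := l1
      interval_cases P1 <;> interval_cases P2 <;> simp [zpar_zero, zpar_one] at h2 ⊢
      exacts [S.hE.z_ne_one h2.symm, S.hE.z_ne_one h2]
    have ha : a = a' := Fin.ext (by rw [← (pair_signs a b).1, ← (pair_signs a' b').1, hab 5 (Or.inl rfl)])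
    have hb : b = b' := Fin.ext (by rw [← (pair_signs a b).2, ← (pair_signs a' b').2, hab 10 (Or.inr rfl)])
    subst ha hb
    exact Prod.ext rfl (Subtype.ext (mul_left_cancel he))
  have hle := Nat.card_le_card_of_injective _ hinj
  have h693 : Nat.card {n : Fin 4096 // orbMask.testBit n.1 = true} = 693 := by
    rw [Nat.card_eq_fintype_card, Fintype.card_subtype, ← Nat.eq_of_beq_eq_true orb_count,
      CfsgLib.Sporadic.countLt_eq]
    exact Finset.card_bij (fun n _ => n.1) (fun a ha => Finset.mem_filter.2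
      ⟨Finset.mem_range.2 a.2, (Finset.mem_filter.1 ha).2⟩)
      (fun a _ b _ h => Fin.ext h) fun b hb => by
        rw [Finset.mem_filter, Finset.mem_range] at hb
        exact ⟨⟨b, hb.1⟩, Finset.mem_filter.2 ⟨Finset.mem_univ _, hb.2⟩, rfl⟩
  rw [Nat.card_prod, Nat.card_prod, h693, Nat.card_prod, Nat.card_prod, Nat.card_fin, S.card_H_five] at hle
  omega

/-- An element centralizing the elementary group of order eight outside the normalizer of `V`. -/
theorem exists_trioC_out : ∃ c ∈ B.trioC, c ∉ B.NV := by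
  obtain ⟨t, htC, ht⟩ := B.exists_word [6, 4] (by simp)
  obtain ⟨e5, e1⟩ := outer_word
  have htz := Frame.commute_z (S := S) htC
  have h5 := (ht 5 (by norm_num)).2
  rw [e5, B.q_five.1] at h5
  set c := t * B.U 5 * t⁻¹ * (B.U 5)⁻¹ with hc
  have hc10 : t * B.U 10 * t⁻¹ = c * B.U 10 := by
    rw [B.U_five_p]
    have hpt : Commute t B.X.F.p := (S.mem_C.1 htC).2 _ B.X.F.hpP
    rw [show t * (B.X.F.p * B.U 5 * B.X.F.p⁻¹) * t⁻¹ = (t * B.X.F.p) * B.U 5 * (t * B.X.F.p)⁻¹ by group, hpt.eq,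
      show B.X.F.p * t * B.U 5 * (B.X.F.p * t)⁻¹ = B.X.F.p * (c * B.U 5) * B.X.F.p⁻¹ by simp only [hc]; group,
      ← conj_mul, z_pow_comm (Frame.commute_z B.X.F.hpC) h5]
  obtain ⟨w, hw, hw5, hw10⟩ : ∃ w < 64, zpar S.z (pairB 5 w) = c ∧ zpar S.z (pairB 10 w) = c := by
    rcases S.hE.eq_or h5 with e | e
    · refine ⟨0, by norm_num, ?_⟩
      have h := pair_signs 0 0
      simp only [Fin.val_zero, mul_zero, add_zero] at h
      rw [h.1, h.2, e]; exact ⟨zpar_zero, zpar_zero⟩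
    · refine ⟨3, by norm_num, ?_⟩
      have h := pair_signs 1 1
      simp only [Fin.val_one, mul_one] at h
      rw [show (3 : ℕ) = 2 + 1 from rfl, h.1, h.2, e]; exact ⟨zpar_one, zpar_one⟩
  have hWz := S.hE.commute_z (B.X.F2_le_E (B.W_mem w))
  have hW0 : ∀ {u : ℕ}, u < 64 → t * B.U u * t⁻¹ = c * B.U u → zpar S.z (pairB u w) = c →
      Commute (t * B.W w) (B.U u) := fun {u} hu h hz => by
    refine mul_inv_eq_iff_eq_mul.1 ?_
    rw [show t * B.W w * B.U u * (t * B.W w)⁻¹ = t * (B.W w * B.U u * (B.W w)⁻¹) * t⁻¹ by group,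
      B.W_conj_U hu hw, hz, ← conj_mul, z_pow_comm htz h5, h, ← mul_assoc,
      show c * c = 1 by rcases S.hE.eq_or h5 with e | e <;> rw [e] <;> simp [S.z_sq], one_mul]
  refine ⟨t * B.W w, B.mem_trioC.2 ⟨?_, ?_, ?_⟩, fun hN => ?_⟩
  · rw [B.vel_one]; exact htz.mul_left hWz
  · rw [B.vel_ten.1]; exact hW0 (by norm_num) (by simp only [hc]; group) hw5
  · rw [B.vel_ten.2]; exact hW0 (by norm_num) hc10 hw10
  have htN : t ∈ B.NV := by
    have := mul_mem hN (inv_mem (B.actsV_norm (B.t_actsV hw)))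
    rwa [mul_inv_cancel_right] at this
  have h1 := ht 1 (by norm_num)
  rw [e1] at h1
  have hF : t * B.q 1 * t⁻¹ ∈ B.X.F1 :=
    (Subgroup.mem_normalizer_iff.1 (B.normF1_of htN htz) _).1 (B.q_mem_F1 (by norm_num))
  have hq : B.q 1025 ∈ B.X.F1 := by
    rw [show B.q 1025 = (t * B.q 1 * t⁻¹ * (B.q 1025)⁻¹)⁻¹ * (t * B.q 1 * t⁻¹) by group]
    exact mul_mem (inv_mem (B.zpowers_le_F1 h1.2)) hF
  obtain ⟨u, hu, d, hd, e⟩ := B.mem_F1_code hq
  have : (1025 : ℕ) = u := B.q_inj (by norm_num) (by omega) (by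
    rw [e, show B.q u = B.U u by rw [HexBase.q, Nat.mod_eq_of_lt hu, Nat.div_eq_of_lt hu, W_zero, mul_one],
      mul_inv_cancel_right]
    exact hd)
  omega

end HexBase

end CfsgLib.JankoFour
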